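import Groth.Agent.Coeq6.AlgSpaces
import Groth.Agent.HopfRep.Orbit
import Groth.Prelude.Def_AlgSp
import Groth.Prelude.Def_AlgGrp

/-!
The groupoid of a free action.
-/

universe u

open CategoryTheory MonoidalCategory CartesianMonoidalCategory MonObj GrpObj AlgebraicGeometry Limits

set_option linter.style.haveILetI false
set_option backward.isDefEq.respectTransparency.types false

noncomputable section

namespace Groth.Agent.Coeq6.Action

variable {S : Scheme.{u}}

/-- a groupoid scheme from an equivalence relation -/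
def ofRel (U R : Scheme.{u}) (pU : U ⟶ S) (pR : R ⟶ S) (s t : R ⟶ U) (hs : s ≫ pU = pR) (ht : t ≫ pU = pR)
    (joint : ∀ {T : Scheme.{u}} (a b : T ⟶ R), a ≫ t = b ≫ t → a ≫ s = b ≫ s → a = b)
    (e : U ⟶ R) (hes : e ≫ s = 𝟙 U) (het : e ≫ t = 𝟙 U) (i : R ⟶ R) (his : i ≫ s = t) (hit : i ≫ t = s)
    (c : Limits.pullback s t ⟶ R) (hcs : c ≫ s = Limits.pullback.snd s t ≫ s)
    (hct : c ≫ t = Limits.pullback.fst s t ≫ t) : Grpd.GroupoidScheme S where
  U := U
  R := R
  pU := pU
  pR := pR
  s := s
  t := t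
  e := e
  i := i
  c := c
  s_over := hs
  t_over := ht
  comp_s α β h := by rw [Category.assoc, hcs, pullback.lift_snd_assoc]
  comp_t α β h := by rw [Category.assoc, hct, pullback.lift_fst_assoc]
  assoc α β δ h₁ h₂ := joint _ _
    (by simp only [Category.assoc, hct, pullback.lift_fst_assoc])
    (by simp only [Category.assoc, hcs, pullback.lift_snd_assoc])
  e_s := hes
  e_t := het
  comp_e α := joint _ _ (by simp only [Category.assoc, hct, pullback.lift_fst_assoc])
    (by simp only [Category.assoc, hcs, pullback.lift_snd_assoc, hes, Category.comp_id])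
  e_comp α := joint _ _ (by simp only [Category.assoc, hct, pullback.lift_fst_assoc, het, Category.comp_id])
    (by simp only [Category.assoc, hcs, pullback.lift_snd_assoc])
  i_s := his
  i_t := hit
  comp_i α := joint _ _ (by simp only [Category.assoc, hct, pullback.lift_fst_assoc, het, Category.comp_id])
    (by simp only [Category.assoc, hcs, pullback.lift_snd_assoc, hes, his, Category.comp_id])
  i_comp α := joint _ _ (by simp only [Category.assoc, hct, pullback.lift_fst_assoc, het, hit, Category.comp_id])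
    (by simp only [Category.assoc, hcs, pullback.lift_snd_assoc, hes, Category.comp_id])

variable {G X : Over S} [GrpObj G] (a : AlgGrp.Action G X)
  (hfree : ∀ (T : Over S) (g : T ⟶ G) (x : T ⟶ X), lift g x ≫ a.act = x → g = toUnit T ≫ η[G])

include hfree in
theorem joint {T : Over S} (r r' : T ⟶ G ⊗ X) (h₁ : r ≫ a.act = r' ≫ a.act) (h₂ : r ≫ snd G X = r' ≫ snd G X) :
    r = r' := by
  apply CartesianMonoidalCategory.hom_ext _ _ ?_ h₂
  have e : ∀ q : T ⟶ G ⊗ X, q = lift (q ≫ fst G X) (q ≫ snd G X) := fun q => by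
    rw [← comp_lift, lift_fst_snd, Category.comp_id]
  have h : lift ((r' ≫ fst G X)⁻¹ * (r ≫ fst G X)) (r ≫ snd G X) ≫ a.act = r ≫ snd G X := by
    rw [HopfRep.Orbit.act_mul, ← e, h₁]
    have e' : r' ≫ a.act = lift (r' ≫ fst G X) (r' ≫ snd G X) ≫ a.act := by rw [← e]
    rw [e', ← HopfRep.Orbit.act_mul, inv_mul_cancel, HopfRep.Orbit.act_one, h₂]
  have := hfree T _ _ h
  rw [← Hom.one_def, inv_mul_eq_one] at this
  exact this.symm

/-- pairs of composable arrows -/
abbrev P : Over S := Over.mk (Limits.pullback.snd (snd G X).left a.act.left ≫ (G ⊗ X).hom)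

/-- the first arrow -/
def p₁ : P a ⟶ G ⊗ X := Over.homMk (Limits.pullback.fst (snd G X).left a.act.left) (by
  show Limits.pullback.fst (snd G X).left a.act.left ≫ (G ⊗ X).hom =
    Limits.pullback.snd (snd G X).left a.act.left ≫ (G ⊗ X).hom
  conv_lhs => rw [← Over.w (snd G X), pullback.condition_assoc, Over.w])

/-- the second arrow -/
def p₂ : P a ⟶ G ⊗ X := Over.homMk (Limits.pullback.snd (snd G X).left a.act.left) rfl

theorem p_cond : p₁ a ≫ snd G X = p₂ a ≫ a.act := Over.OverMorphism.ext pullback.condition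

/-- composition -/
def cmp : P a ⟶ G ⊗ X := lift ((p₁ a ≫ fst G X) * (p₂ a ≫ fst G X)) (p₂ a ≫ snd G X)

theorem cmp_act : cmp a ≫ a.act = p₁ a ≫ a.act := by
  rw [cmp, HopfRep.Orbit.act_mul, ← comp_lift, lift_fst_snd, Category.comp_id, ← p_cond, ← comp_lift,
    lift_fst_snd, Category.comp_id]

theorem inv_act : lift (fst G X)⁻¹ a.act ≫ a.act = snd G X := by
  have e : lift (fst G X) (snd G X) ≫ a.act = a.act := by rw [lift_fst_snd, Category.id_comp]
  calc lift (fst G X)⁻¹ a.act ≫ a.act = lift (fst G X)⁻¹ (lift (fst G X) (snd G X) ≫ a.act) ≫ a.act := by rw [e]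
    _ = snd G X := by rw [← HopfRep.Orbit.act_mul, inv_mul_cancel, HopfRep.Orbit.act_one]

/-- the groupoid of a free action -/
def groupoid : Grpd.GroupoidScheme S :=
  ofRel X.left (G ⊗ X).left X.hom (G ⊗ X).hom (snd G X).left a.act.left (Over.w _) (Over.w _)
    (fun {T} r r' h₁ h₂ => by
      have hw : r' ≫ (G ⊗ X).hom = r ≫ (G ⊗ X).hom := by
        rw [← Over.w (snd G X), reassoc_of% h₂]
      exact congrArg (fun f => f.left) (joint a hfree (T := Over.mk (r ≫ (G ⊗ X).hom)) (Over.homMk r rfl)
        (Over.homMk r' hw) (Over.OverMorphism.ext h₁) (Over.OverMorphism.ext h₂)))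
    (lift (1 : X ⟶ G) (𝟙 X)).left
    (by rw [← Over.comp_left, lift_snd]; rfl)
    (by rw [← Over.comp_left, HopfRep.Orbit.act_one]; rfl)
    (lift (fst G X)⁻¹ a.act).left
    (by rw [← Over.comp_left, lift_snd])
    (by rw [← Over.comp_left, inv_act])
    (cmp a).left
    (by rw [← Over.comp_left, cmp, lift_snd]; rfl)
    (by rw [← Over.comp_left, cmp_act]; rfl)

end Groth.Agent.Coeq6.Action

end
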