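import Groth.Agent.Coeq6.Pred
import Mathlib.AlgebraicGeometry.AffineScheme

/-!
Affine quotients are local quotients for affine targets.
-/

universe u

open CategoryTheory AlgebraicGeometry Limits Opposite

set_option linter.style.haveILetI false
set_option backward.isDefEq.respectTransparency.types false

noncomputable section

namespace Groth.Agent.Coeq6.Affine

open Pred

/-- restriction from global sections -/
abbrev res {X : Scheme.{u}} (W : X.Opens) : Γ(X, ⊤) ⟶ Γ(X, W) := X.presheaf.map (homOfLE le_top).op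

theorem res_props {X : Scheme.{u}} [IsAffine X] (f : Γ(X, ⊤)) (W : X.Opens) (hW : W = X.basicOpen f) :
    IsUnit ((res W).hom f) ∧ (∀ x : Γ(X, W), ∃ (a : Γ(X, ⊤)) (n : ℕ), x * (res W).hom f ^ n = (res W).hom a) ∧
      ∀ a, (res W).hom a = 0 → ∃ n : ℕ, f ^ n * a = 0 := by
  subst hW
  haveI := (isAffineOpen_top X).isLocalization_basicOpen f
  refine ⟨IsLocalization.Away.algebraMap_isUnit f, fun x => ?_, fun a ha => ?_⟩
  · obtain ⟨n, a, h⟩ := IsLocalization.Away.surj f x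
    exact ⟨a, n, h⟩
  · obtain ⟨⟨_, n, rfl⟩, hn⟩ := (IsLocalization.map_eq_zero_iff (Submonoid.powers f) Γ(X, X.basicOpen f) a).1 ha
    exact ⟨n, hn⟩

variable {R U M : Scheme.{u}} (s t : R ⟶ U) (p : U ⟶ M)

theorem app_res (W : M.Opens) (a : Γ(M, ⊤)) : (p.app W).hom ((res W).hom a) = (res (p ⁻¹ᵁ W)).hom (p.appTop.hom a) :=
  congrArg (fun f => f.hom a) (p.naturality (homOfLE (le_top (a := W))).op)

theorem appLE_res (W : U.Opens) (O : R.Opens) (e : O ≤ s ⁻¹ᵁ W) (a : Γ(U, ⊤)) :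
    (s.appLE W O e).hom ((res W).hom a) = (res O).hom (s.appTop.hom a) := by
  have h1 := Scheme.Hom.map_appLE s e (homOfLE (le_top : W ≤ ⊤)).op
  have h2 := Scheme.Hom.app_eq_appLE (f := s) (U := ⊤)
  have h3 := Scheme.Hom.appLE_map s (U := ⊤) (V := s ⁻¹ᵁ ⊤) le_rfl (homOfLE (le_top : O ≤ ⊤)).op
  calc _ = (s.appLE ⊤ O le_top).hom a := congrArg (fun f => f.hom a) h1
    _ = _ := by
      rw [← h3, ← h2]
      rfl

theorem sections [IsAffine U] [IsAffine R] [IsAffine M] (w : s ≫ p = t ≫ p) (hinj : Function.Injective p.appTop.hom)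
    (heq : ∀ a, s.appTop.hom a = t.appTop.hom a → a ∈ Set.range p.appTop.hom) (c : Γ(M, ⊤)) :
    Function.Injective (p.app (M.basicOpen c)).hom ∧
      ∀ (O : R.Opens) (hO : O = s ⁻¹ᵁ (p ⁻¹ᵁ M.basicOpen c)) (e₁ : O ≤ s ⁻¹ᵁ (p ⁻¹ᵁ M.basicOpen c))
        (e₂ : O ≤ t ⁻¹ᵁ (p ⁻¹ᵁ M.basicOpen c)) (x : Γ(U, p ⁻¹ᵁ M.basicOpen c)),
        (s.appLE _ O e₁).hom x = (t.appLE _ O e₂).hom x → x ∈ Set.range (p.app (M.basicOpen c)).hom := by
  let γ := p.appTop.hom c
  obtain ⟨uM, sM, zM⟩ := res_props c (M.basicOpen c) rfl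
  obtain ⟨uU, sU, zU⟩ := res_props γ (p ⁻¹ᵁ M.basicOpen c) (Scheme.preimage_basicOpen_top p c)
  refine ⟨(injective_iff_map_eq_zero _).2 fun x hx => ?_, fun O hO e₁ e₂ x hx => ?_⟩
  · obtain ⟨d, n, hd⟩ := sM x
    have h0 : (res (p ⁻¹ᵁ M.basicOpen c)).hom (p.appTop.hom d) = 0 := by
      rw [← app_res, ← hd, map_mul, hx, zero_mul]
    obtain ⟨m, hm⟩ := zU _ h0
    have : c ^ m * d = 0 := hinj (by rw [map_mul, map_pow, map_zero]; exact hm)
    have h1 := congrArg (res (M.basicOpen c)).hom this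
    rw [map_mul, map_pow, map_zero, ← hd] at h1
    exact ((uM.pow n).mul_left_eq_zero.1 ((uM.pow m).mul_right_eq_zero.1 h1))
  · have hγ : s.appTop.hom γ = t.appTop.hom γ := by
      have := congrArg (fun f : R ⟶ M => f.appTop.hom c) w
      simpa [Scheme.Hom.comp_appTop] using this
    obtain ⟨uR, sR, zR⟩ := res_props (s.appTop.hom γ) O (by
      rw [hO, Scheme.preimage_basicOpen_top p c, Scheme.preimage_basicOpen_top s γ])
    obtain ⟨a, n, ha⟩ := sU x
    have h0 : (res O).hom (s.appTop.hom a - t.appTop.hom a) = 0 := by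
      rw [map_sub, ← appLE_res s _ O e₁, ← appLE_res t _ O e₂, ← ha, map_mul, map_mul, hx, map_pow, map_pow,
        appLE_res, appLE_res, hγ, sub_self]
    obtain ⟨m, hm⟩ := zR _ h0
    obtain ⟨d, hd⟩ := heq (γ ^ m * a) (by
      rw [map_mul, map_mul, map_pow, map_pow, ← sub_eq_zero, ← hγ, ← mul_sub]
      exact hm)
    obtain ⟨y, hy⟩ := (uM.pow (n + m)).dvd (a := (res (M.basicOpen c)).hom d)
    refine ⟨y, (uU.pow (n + m)).mul_right_cancel ?_⟩
    have h1 := congrArg (p.app (M.basicOpen c)).hom hy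
    rw [map_mul, map_pow, app_res, app_res, hd, map_mul, map_pow, ← ha] at h1
    rw [mul_comm, ← h1, pow_add]
    ring

theorem affUniv [IsAffine U] [IsAffine R] [IsAffine M] (w : s ≫ p = t ≫ p) (hinj : Function.Injective p.appTop.hom)
    (heq : ∀ a, s.appTop.hom a = t.appTop.hom a → a ∈ Set.range p.appTop.hom) (c : Γ(M, ⊤)) :
    AffUniv s t p (M.basicOpen c) := by
  intro Z _ g hg
  obtain ⟨hi, hr⟩ := sections s t p w hinj heq c
  let E := M.basicOpen c
  let O := s ⁻¹ᵁ (p ⁻¹ᵁ E)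
  have e₂ : O ≤ t ⁻¹ᵁ (p ⁻¹ᵁ E) := fun r hr => by
    show p (t r) ∈ E
    rw [← Scheme.Hom.comp_apply, ← w]
    exact hr
  have hψ : Function.Injective (p ∣_ E).appTop.hom := by
    have : (p ∣_ E).appTop = E.topIso.hom ≫ p.app E ≫ (p ⁻¹ᵁ E).topIso.inv := by
      rw [← Scheme.Hom.resLE_eq_morphismRestrict]
      exact (Scheme.Hom.resLE_app_top _ _).trans (by rw [Scheme.Hom.app_eq_appLE])
    rw [this]
    simp only [CommRingCat.hom_comp, RingHom.coe_comp]
    exact ((p ⁻¹ᵁ E).topIso.commRingCatIsoToRingEquiv.symm.injective).comp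
      (hi.comp E.topIso.commRingCatIsoToRingEquiv.injective)
  have key : ∀ z, ((g.appTop ≫ (p ⁻¹ᵁ E).topIso.hom).hom z) ∈ (p.app E).hom.range := by
    intro z
    refine hr O rfl le_rfl e₂ _ ?_
    have h := congrArg (fun f : O.toScheme ⟶ Z => f.appTop ≫ O.topIso.hom)
      (hg _ O.ι (s.resLE (p ⁻¹ᵁ E) O le_rfl) (t.resLE (p ⁻¹ᵁ E) O e₂) (Scheme.Hom.resLE_comp_ι _ _) (Scheme.Hom.resLE_comp_ι _ _))
    simp only [Scheme.Hom.comp_appTop] at h
    rw [show (s.resLE (p ⁻¹ᵁ E) O le_rfl).appTop = _ from Scheme.Hom.resLE_app_top _ _,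
      show (t.resLE (p ⁻¹ᵁ E) O e₂).appTop = _ from Scheme.Hom.resLE_app_top _ _] at h
    simp only [Category.assoc, Iso.inv_hom_id, Category.comp_id] at h
    exact congrArg (fun f => f.hom z) h
  let eq := RingEquiv.ofBijective (p.app E).hom.rangeRestrict ⟨fun a b h => hi (congrArg Subtype.val h),
    RingHom.rangeRestrict_surjective _⟩
  let φ : Γ(Z, ⊤) ⟶ Γ(E.toScheme, ⊤) :=
    CommRingCat.ofHom (eq.symm.toRingHom.comp ((g.appTop ≫ (p ⁻¹ᵁ E).topIso.hom).hom.codRestrict _ key)) ≫ E.topIso.inv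
  have hφ : φ ≫ (p ∣_ E).appTop = g.appTop := by
    rw [show (p ∣_ E).appTop = E.topIso.hom ≫ p.app E ≫ (p ⁻¹ᵁ E).topIso.inv by
      rw [← Scheme.Hom.resLE_eq_morphismRestrict]
      exact (Scheme.Hom.resLE_app_top _ _).trans (by rw [Scheme.Hom.app_eq_appLE])]
    simp only [φ, Category.assoc, Iso.inv_hom_id_assoc]
    rw [← Category.assoc, Iso.comp_inv_eq]
    ext z
    exact congrArg Subtype.val (eq.apply_symm_apply ⟨_, key z⟩)
  refine ⟨E.toScheme.toSpecΓ ≫ Spec.map φ ≫ Z.isoSpec.inv, ?_, fun v hv => ?_⟩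
  · show p ∣_ E ≫ _ = g
    rw [← cancel_mono Z.isoSpec.hom]
    simp only [Category.assoc, Iso.inv_hom_id, Category.comp_id]
    rw [Scheme.toSpecΓ_naturality_assoc, ← Spec.map_comp, hφ]
    exact (Scheme.toSpecΓ_naturality g).symm
  · rw [← cancel_mono Z.isoSpec.hom]
    simp only [Category.assoc, Iso.inv_hom_id, Category.comp_id]
    refine (Scheme.toSpecΓ_naturality v).trans ?_
    have h1 : v.appTop ≫ (p ∣_ E).appTop = φ ≫ (p ∣_ E).appTop := by
      rw [hφ, ← Scheme.Hom.comp_appTop]; exact congrArg Scheme.Hom.appTop hv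
    have : v.appTop = φ := by
      ext z
      exact hψ (congrArg (fun f => f.hom z) h1)
    rw [this]

theorem isQuot [IsAffine U] [IsAffine R] [IsAffine M] (w : s ≫ p = t ≫ p) (hs : Function.Surjective p)
    (ho : IsOpenMap p) (hrel : ∀ x y : U, p x = p y → ∃ r : R, t r = x ∧ s r = y)
    (hinj : Function.Injective p.appTop.hom)
    (heq : ∀ a, s.appTop.hom a = t.appTop.hom a → a ∈ Set.range p.appTop.hom) : IsQuot s t p := by
  refine ⟨w, hs, ho, hrel, fun y V hy => ?_⟩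
  obtain ⟨c, hcV, hyc⟩ := (isAffineOpen_top M).exists_basicOpen_le ⟨y, hy⟩ (Set.mem_univ y)
  exact ⟨_, hyc, hcV, affUniv s t p w hinj heq c⟩

end Groth.Agent.Coeq6.Affine

end
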