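import Groth.Agent.Coeq6.Main
import Groth.Agent.QuotSh6.Basic
import Groth.Prelude.Def_AlgSp
import Groth.Prelude.Def_Mor2
import Groth.Agent.Fpqc.Fppf

/-!
Quotient sheaves of finite locally free equivalence relations.
-/

universe u

open CategoryTheory AlgebraicGeometry Limits

set_option linter.style.haveILetI false
set_option backward.isDefEq.respectTransparency.types false

noncomputable section

namespace Groth.Agent.Coeq6.AlgSpaces

variable {S : Scheme.{u}}

theorem isQuotient {R U M : Over S} (s t : R ⟶ U) (m : U ⟶ M) [Flat m.left] [Surjective m.left]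
    [LocallyOfFinitePresentation m.left] (h : IsPullback t.left s.left m.left m.left) :
    QuotSh.IsQuotient Scheme.fppfPrecoverage s t m := by
  haveI : Epi (QuotSh.repMap Scheme.fppfPrecoverage m) :=
    QuotSh6.Basic.epi_of_cover _ m (Precoverage.generate_mem_toGrothendieck (Scheme.Hom.singleton_mem_fppfPrecoverage m.left))
  haveI : Epi (QuotSh.repMap Scheme.fppfPrecoverage (𝟙 R)) := by
    show Epi ((QuotSh6.Basic.repFun Scheme.fppfPrecoverage).map (𝟙 R))
    rw [CategoryTheory.Functor.map_id]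
    infer_instance
  exact QuotSh6.Basic.isQuotient _ s t m (Over.OverMorphism.ext h.w.symm) t s
    (QuotSh6.Basic.isPullback_over t s m h) (𝟙 R) (Category.id_comp _) (Category.id_comp _)

theorem quotient (G : Grpd.GroupoidScheme S) (hs : Mor2.IsFinLocFree G.s)
    (heq : AlgSp.IsEqvRel (Over.homMk G.s G.s_over : Over.mk G.pR ⟶ Over.mk G.pU)
      (Over.homMk G.t G.t_over : Over.mk G.pR ⟶ Over.mk G.pU))
    (h3 : ∀ Z : Set ↥G.U, IsClosed Z → Z.Nonempty →
      ∃ u ∈ Z, ∃ W : G.U.Opens, IsAffineOpen W ∧ ∀ r : ↥G.R, G.s r = u → G.t r ∈ W) :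
    ∃ (M : Over S) (m : Over.mk G.pU ⟶ M), Mor2.IsFinLocFree m.left ∧ IsPullback G.t G.s m.left m.left ∧
      QuotSh.IsQuotient Scheme.fppfPrecoverage (Over.homMk G.s G.s_over : Over.mk G.pR ⟶ Over.mk G.pU)
        (Over.homMk G.t G.t_over : Over.mk G.pR ⟶ Over.mk G.pU) m := by
  obtain ⟨_, _, _⟩ := hs
  obtain ⟨_, _, _⟩ := Restrict.flags_t G
  haveI : Mono G.j := ⟨fun {T} a b h => by
    have h₁ : a ≫ G.t = b ≫ G.t := by
      have := congrArg (· ≫ pullback.fst G.pU G.pU) h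
      simpa [Grpd.GroupoidScheme.j, pullback.lift_fst] using this
    have h₂ : a ≫ G.s = b ≫ G.s := by
      have := congrArg (· ≫ pullback.snd G.pU G.pU) h
      simpa [Grpd.GroupoidScheme.j, pullback.lift_snd] using this
    have hb : b ≫ G.pR = a ≫ G.pR := by rw [← G.s_over, ← Category.assoc, ← h₂, Category.assoc]
    exact congrArg (fun f => f.left) (heq.injective (Over.mk (a ≫ G.pR)) (Over.homMk a rfl) (Over.homMk b hb)
      (Over.OverMorphism.ext h₁) (Over.OverMorphism.ext h₂))⟩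
  have hb : ∀ x : G.U, ∃ V : G.U.Opens, IsAffineOpen V ∧ G.t.base '' (G.s.base ⁻¹' {x}) ⊆ (V : Set G.U) := by
    let good : Set G.U := {x | ∃ W : G.U.Opens, IsAffineOpen W ∧ x ∈ W ∧ G.s ⁻¹ᵁ W = G.t ⁻¹ᵁ W}
    have hgood : IsOpen good := by
      refine isOpen_iff_forall_mem_open.2 fun x ⟨W, h₁, h₂, h₃⟩ => ⟨W, fun y hy => ⟨W, h₁, hy, h₃⟩, W.2, h₂⟩
    have hall : goodᶜ = (∅ : Set G.U) := by
      by_contra hne
      obtain ⟨u, hu, W, hW, hsub⟩ := h3 goodᶜ hgood.isClosed_compl (Set.nonempty_iff_ne_empty.2 hne)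
      obtain ⟨W', h₁, h₂, -, h₄⟩ := Invariant.exists_invariant_affine u W W hW fun x hx => by
        obtain ⟨r, hr₁, hr₂⟩ := Invariant.rel_symm hx
        exact ⟨hr₁ ▸ hsub r hr₂, hr₁ ▸ hsub r hr₂⟩
      exact hu ⟨W', h₁, h₂, h₄⟩
    intro x
    obtain ⟨W, h₁, h₂, h₃⟩ : x ∈ good := by
      by_contra hx
      exact (hall ▸ (hx : x ∈ goodᶜ) : x ∈ (∅ : Set G.U))
    refine ⟨W, h₁, ?_⟩
    rintro _ ⟨r, hr, rfl⟩
    show r ∈ G.t ⁻¹ᵁ W
    rw [← h₃]
    show G.s r ∈ W
    rw [show G.s r = x from hr]; exact h₂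
  obtain ⟨Y, p, w, ⟨hc⟩, -, hsurj, -⟩ := Main.coequalizer G hb
  obtain ⟨hP, h₁, h₂, h₃⟩ := Main.isPullback_finLocFree G hb Y p w hc
  obtain ⟨h, hh⟩ := Cofork.IsColimit.desc' hc G.pU (G.t_over.trans G.s_over.symm)
  let m : Over.mk G.pU ⟶ Over.mk h := Over.homMk p hh
  haveI : Flat m.left := h₂
  haveI : Surjective m.left := hsurj
  haveI : LocallyOfFinitePresentation m.left := h₃
  exact ⟨Over.mk h, m, ⟨h₁, h₂, h₃⟩, hP, isQuotient _ _ m hP⟩

theorem isSeparated_of_surjective {U M T : Scheme.{u}} (m : U ⟶ M) (h : M ⟶ T) [UniversallyClosed m] [Surjective m]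
    [IsSeparated (m ≫ h)] : IsSeparated h := by
  constructor
  have hcl : IsClosed (Set.range (pullback.diagonal h)) := by
    let μ : pullback (m ≫ h) (m ≫ h) ⟶ pullback h h := pullback.map _ _ _ _ m m (𝟙 T) (by simp) (by simp)
    haveI : UniversallyClosed μ := MorphismProperty.pullback_map (P := @UniversallyClosed) ‹_› ‹_› (by simp) (by simp)
    have e : pullback.diagonal (m ≫ h) ≫ μ = m ≫ pullback.diagonal h := by
      apply pullback.hom_ext <;> simp [μ, pullback.map, pullback.lift_fst, pullback.lift_snd]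
    have : Set.range (pullback.diagonal h) = μ '' Set.range (pullback.diagonal (m ≫ h)) := by
      rw [← Set.range_comp, show ⇑μ ∘ ⇑(pullback.diagonal (m ≫ h)) = ⇑(pullback.diagonal h) ∘ ⇑m from
        funext fun x => congrArg (fun f => f x) e, Set.range_comp, m.surjective.range_eq, Set.image_univ]
    rw [this]
    exact μ.isClosedMap _ (pullback.diagonal (m ≫ h)).isClosedEmbedding.isClosed_range
  exact IsClosedImmersion.of_isPreimmersion _ hcl

theorem quasiSeparatedSpace_of_surjective {U M : Scheme.{u}} (m : U ⟶ M) [QuasiCompact m] [Surjective m]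
    [QuasiSeparatedSpace U] : QuasiSeparatedSpace M := by
  constructor
  intro A B hA hAc hB hBc
  rw [← Set.image_preimage_eq (A ∩ B) m.surjective, Set.preimage_inter]
  exact (QuasiSeparatedSpace.inter_isCompact _ _ (hA.preimage m.continuous)
    (QuasiCompact.isCompact_preimage _ hA hAc) (hB.preimage m.continuous)
    (QuasiCompact.isCompact_preimage _ hB hBc)).image m.continuous

theorem quasiSeparated_of_surjective {U M T : Scheme.{u}} (m : U ⟶ M) (h : M ⟶ T) [QuasiCompact m] [Surjective m]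
    [QuasiSeparated (m ≫ h)] : QuasiSeparated h := by
  refine (IsZariskiLocalAtTarget.iff_of_iSup_eq_top (P := @QuasiSeparated) (fun V : T.affineOpens => (V : T.Opens))
    (iSup_affineOpens_eq_top T)).2 fun V => ?_
  haveI : IsAffine (V : T.Opens).toScheme := V.2
  rw [quasiSeparated_iff_quasiSeparatedSpace]
  haveI : QuasiSeparated ((m ≫ h) ∣_ (V : T.Opens)) :=
    MorphismProperty.of_isPullback (isPullback_morphismRestrict _ _).flip ‹_›
  haveI : QuasiSeparatedSpace ((m ≫ h) ⁻¹ᵁ (V : T.Opens)).toScheme :=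
    (quasiSeparated_iff_quasiSeparatedSpace ((m ≫ h) ∣_ (V : T.Opens))).1 ‹_›
  haveI : QuasiCompact (m ∣_ (h ⁻¹ᵁ (V : T.Opens))) :=
    MorphismProperty.of_isPullback (isPullback_morphismRestrict _ _).flip ‹_›
  haveI : Surjective (m ∣_ (h ⁻¹ᵁ (V : T.Opens))) :=
    MorphismProperty.of_isPullback (isPullback_morphismRestrict _ _).flip ‹_›
  haveI : QuasiSeparatedSpace (m ⁻¹ᵁ (h ⁻¹ᵁ (V : T.Opens))).toScheme :=
    inferInstanceAs (QuasiSeparatedSpace ((m ≫ h) ⁻¹ᵁ (V : T.Opens)).toScheme)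
  exact quasiSeparatedSpace_of_surjective (m ∣_ (h ⁻¹ᵁ (V : T.Opens)))

theorem exists_of_mem {X : Scheme.{u}} {R : Sieve X} (hR : R ∈ Scheme.fppfPrecoverage.toGrothendieck X) :
    ∀ (Y : Scheme.{u}) (f : Y ⟶ X) (y : Y), ∃ (Z : Scheme.{u}) (g : Z ⟶ Y), R (g ≫ f) ∧ ∃ z, g z = y := by
  induction hR with
  | of X R hR =>
    intro Y f y
    obtain ⟨T, g, hg, t, ht⟩ := Fpqc.Fppf.exists_mem hR (f y)
    obtain ⟨z, hz₁, hz₂⟩ := Scheme.Pullback.exists_preimage_pullback (f := g) (g := f) t y ht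
    exact ⟨_, pullback.snd g f, ⟨T, pullback.fst g f, g, hg, pullback.condition⟩, z, hz₂⟩
  | top X => exact fun Y f y => ⟨Y, 𝟙 Y, trivial, y, rfl⟩
  | pullback X R _ Y' f' ih =>
    intro Y f y
    obtain ⟨Z, g, hg, hz⟩ := ih Y (f ≫ f') y
    exact ⟨Z, g, by simpa [Sieve.pullback_apply] using hg, hz⟩
  | transitive X R R' _ _ ih₁ ih₂ =>
    intro Y f y
    obtain ⟨Z, g, hg, z, rfl⟩ := ih₁ Y f y
    obtain ⟨W, h, hh, w, rfl⟩ := ih₂ hg Z (𝟙 Z) z
    exact ⟨W, h ≫ g, by simpa [Sieve.pullback_apply] using hh, w, rfl⟩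

theorem surjective_of_isQuotient {R U M : Over S} {s t : R ⟶ U} {m : U ⟶ M}
    (h : QuotSh.IsQuotient Scheme.fppfPrecoverage s t m) : Surjective m.left := by
  obtain ⟨w, hi⟩ := h
  haveI : Epi (QuotSh.repMap Scheme.fppfPrecoverage m) := by
    rw [show QuotSh.repMap Scheme.fppfPrecoverage m =
      QuotSh.quotπ Scheme.fppfPrecoverage s t ≫ QuotSh.quotDesc Scheme.fppfPrecoverage m w from
        (coequalizer.π_desc _ _).symm]
    haveI : Epi (QuotSh.quotπ Scheme.fppfPrecoverage s t) :=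
      inferInstanceAs (Epi (coequalizer.π _ _))
    exact epi_comp _ _
  have hl : Sheaf.IsLocallySurjective (QuotSh.repMap Scheme.fppfPrecoverage m) :=
    (Sheaf.isLocallySurjective_iff_epi' _ (QuotSh.repMap Scheme.fppfPrecoverage m)).2 inferInstance
  have hl' := (Presheaf.isLocallySurjective_presheafToSheaf_map_iff _ _).1 hl
  refine ⟨fun y => ?_⟩
  obtain ⟨Z, g, hg, z, hz⟩ := exists_of_mem ((GrothendieckTopology.mem_over_iff _ _).1
    (hl'.imageSieve_mem (U := M) (ULift.up (𝟙 M)))) M.left (𝟙 _) y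
  rw [Sieve.overEquiv_iff] at hg
  obtain ⟨⟨v⟩, hv⟩ := hg
  refine ⟨v.left z, ?_⟩
  have := congrArg (fun w : ULift _ => w.down.left) hv
  simp at this
  rw [← Scheme.Hom.comp_apply]
  exact (congrArg (fun f => f z) this).trans hz

end Groth.Agent.Coeq6.AlgSpaces

end
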