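import Groth.Prelude.Def_Grpd
import Groth.Agent.Grpd6.Fibres
import Mathlib.AlgebraicGeometry.Morphisms.QuasiFinite
import Mathlib.AlgebraicGeometry.Morphisms.Finite
import Mathlib.AlgebraicGeometry.PullbackCarrier
import Mathlib.RingTheory.Finiteness.ModuleFinitePresentation

/-!
Invariant affine open neighbourhoods for finite locally free groupoids.
-/

universe u

open CategoryTheory AlgebraicGeometry Limits Matrix

set_option linter.style.haveILetI false
set_option backward.isDefEq.respectTransparency.types false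

noncomputable section

namespace Groth.Agent.Coeq6.Invariant

open Grpd6.CharRev

/-- the matrix of a product -/
theorem mat_mul {A B : Type u} [CommRing A] [CommRing B] [Algebra A B] {n : ℕ} (P : Split A B n) (a b : B) :
    mat P a * mat P b = mat P (a * b) := by
  rw [mat, mat, mat, ← LinearMap.toMatrix'_comp]
  refine congrArg LinearMap.toMatrix' (LinearMap.ext fun x => ?_)
  simp only [LinearMap.comp_apply, LinearMap.mulLeft_apply]
  rw [show ∀ v, P.p (P.i v) = v from LinearMap.congr_fun P.h, mul_assoc]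

theorem exists_det {A B : Type u} [CommRing A] [CommRing B] [Algebra A B] [Module.Finite A B] [Module.Projective A B]
    (β : B) : ∃ D : A, ∀ q : Ideal A, q.IsPrime → (D ∈ q ↔ ∃ Q : Ideal B, Q.IsPrime ∧ Q.comap (algebraMap A B) = q ∧ β ∈ Q) := by
  classical
  obtain ⟨n, π, ι', hπ, -, hcomp⟩ := Module.Finite.exists_comp_eq_id_of_projective A B
  let P : Split A B n := ⟨ι', π, hcomp⟩
  refine ⟨(mat P β + (1 - mat P 1)).det, fun q hq => ⟨fun hD => ?_, ?_⟩⟩
  · haveI : Algebra.IsIntegral A B := Algebra.IsIntegral.of_finite A B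
    by_cases h : (Ideal.span {β}).comap (algebraMap A B) ≤ q
    · obtain ⟨Q, hQ, hQp, hQq⟩ := Ideal.exists_ideal_over_prime_of_isIntegral q _ h
      exact ⟨Q, hQp, hQq, hQ (Ideal.subset_span rfl)⟩
    · obtain ⟨s, hs, hsq⟩ := SetLike.not_le_iff_exists.1 h
      obtain ⟨γ, hγ⟩ := Ideal.mem_span_singleton'.1 hs
      have e1 : ∀ a : B, mat P a * mat P 1 = mat P a := fun a => by rw [mat_mul, mul_one]
      have e2 : ∀ a : B, mat P 1 * mat P a = mat P a := fun a => by rw [mat_mul, one_mul]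
      have e3 : mat P (algebraMap A B s) = s • mat P 1 := by
        rw [mat, mat, ← map_smul]
        refine congrArg LinearMap.toMatrix' (LinearMap.ext fun x => ?_)
        simp only [LinearMap.comp_apply, LinearMap.smul_apply, LinearMap.mulLeft_apply, one_mul]
        rw [← Algebra.smul_def, map_smul]
      have e4 : (mat P β + (1 - mat P 1)) * (mat P γ + s • (1 - mat P 1)) = s • (1 : Matrix (Fin n) (Fin n) A) := by
        simp only [add_mul, mul_add, sub_mul, mul_sub, Matrix.mul_smul, one_mul, mul_one, e1, e2, mat_mul,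
          smul_sub, mul_comm β γ, hγ, e3]
        abel
      have := congrArg Matrix.det e4
      rw [Matrix.det_mul, Matrix.det_smul, Matrix.det_one, mul_one] at this
      exact (hsq (hq.mem_of_pow_mem _ (this ▸ Ideal.mul_mem_right _ _ hD))).elim
  · rintro ⟨Q, hQ, rfl, hβ⟩
    let y : B →+* B ⧸ Q := Ideal.Quotient.mk Q
    let x : A →+* B ⧸ Q := y.comp (algebraMap A B)
    let v : Fin n → B ⧸ Q := fun a => y (P.p (Pi.single a 1))
    have hv : ∀ b : B, v ᵥ* (mat P b).map x = fun a => y b * v a := fun b => Grpd6.Fibres.vecMul_map P x y rfl b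
    have hne : v ≠ 0 := by
      intro h0
      have h1 : y (P.p (P.i 1)) = 1 := by rw [show P.p (P.i 1) = 1 from LinearMap.congr_fun P.h 1, map_one]
      rw [pi_eq_sum_univ' (P.i 1)] at h1
      simp only [map_sum, map_smul] at h1
      rw [Finset.sum_eq_zero fun a _ => by
        rw [Algebra.smul_def, map_mul, show y (P.p (Pi.single a 1)) = 0 from congrFun h0 a, mul_zero]] at h1
      exact zero_ne_one h1
    have hmul : v ᵥ* (mat P β + (1 - mat P 1)).map x = 0 := by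
      have hm : (mat P β + (1 - mat P 1)).map x = (mat P β).map x + (1 - (mat P 1).map x) := by
        rw [Matrix.map_add _ (map_add x), Matrix.map_sub _ (map_sub x), Matrix.map_one _ (map_zero x) (map_one x)]
      rw [hm, Matrix.vecMul_add, Matrix.vecMul_sub, Matrix.vecMul_one, hv, hv]
      funext a
      simp [y, Ideal.Quotient.eq_zero_iff_mem.2 hβ]
    have hdet : ((mat P β + (1 - mat P 1)).map x).det = 0 := Matrix.exists_vecMul_eq_zero_iff.1 ⟨v, hne, hmul⟩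
    rw [← RingHom.mapMatrix_apply, ← RingHom.map_det] at hdet
    exact Ideal.mem_comap.2 (Ideal.Quotient.eq_zero_iff_mem.1 hdet)

theorem exists_basicOpen {X : Scheme.{u}} [IsAffine X] (O : X.Opens) (F : Set X) (hF : F.Finite) (hFO : F ⊆ O) :
    ∃ f : Γ(X, ⊤), X.basicOpen f ≤ O ∧ F ⊆ X.basicOpen f := by
  classical
  let Z : Set (PrimeSpectrum Γ(X, ⊤)) := (X.isoSpec.hom '' (O : Set X))ᶜ
  have hZ : IsClosed Z := (X.isoSpec.hom.homeomorph.isOpenMap _ O.2).isClosed_compl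
  obtain ⟨I, hI⟩ := (PrimeSpectrum.isClosed_iff_zeroLocus_ideal Z).1 hZ
  have hmem : ∀ (f : Γ(X, ⊤)) (x : X), x ∈ X.basicOpen f ↔ f ∉ (X.isoSpec.hom x).asIdeal := fun f x => by
    rw [← Scheme.toSpecΓ_preimage_basicOpen]; rfl
  rcases F.eq_empty_or_nonempty with rfl | ⟨x₀, hx₀⟩
  · exact ⟨0, by simp, by simp⟩
  have hI' : ¬ (I : Set Γ(X, ⊤)) ⊆ ⋃ x ∈ (hF.toFinset : Set X), ((X.isoSpec.hom x).asIdeal : Set Γ(X, ⊤)) := by
    rw [Ideal.subset_union_prime x₀ x₀ fun x _ _ _ => (X.isoSpec.hom x).isPrime]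
    rintro ⟨x, hx, hle⟩
    have : X.isoSpec.hom x ∈ Z := by rw [hI]; exact (PrimeSpectrum.mem_zeroLocus _ _).2 hle
    exact this ⟨x, hFO (hF.mem_toFinset.1 hx), rfl⟩
  obtain ⟨f, hfI, hf⟩ := Set.not_subset.1 hI'
  refine ⟨f, fun x hx => ?_, fun x hx => (hmem f x).2 fun h => hf (Set.mem_biUnion (hF.mem_toFinset.2 hx) h)⟩
  by_contra hxO
  have : X.isoSpec.hom x ∈ Z := by
    rintro ⟨x', hx', he⟩
    exact hxO (X.isoSpec.hom.homeomorph.injective he ▸ hx')
  rw [hI] at this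
  exact (hmem f x).1 hx ((PrimeSpectrum.mem_zeroLocus _ _).1 this hfI)

variable {S : Scheme.{u}} {G : Grpd.GroupoidScheme S}

variable (G) in
/-- two points of the objects are related by an arrow -/
def Rel (x y : G.U) : Prop := ∃ r : G.R, G.t r = x ∧ G.s r = y

theorem rel_refl (x : G.U) : Rel G x x :=
  ⟨G.e x, congrArg (fun f => f x) G.e_t, congrArg (fun f => f x) G.e_s⟩

theorem rel_symm {x y : G.U} (h : Rel G x y) : Rel G y x := by
  obtain ⟨r, rfl, rfl⟩ := h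
  exact ⟨G.i r, congrArg (fun f => f r) G.i_t, congrArg (fun f => f r) G.i_s⟩

theorem rel_trans {x y z : G.U} (h₁ : Rel G x y) (h₂ : Rel G y z) : Rel G x z := by
  obtain ⟨r₁, rfl, rfl⟩ := h₁
  obtain ⟨r₂, hr, rfl⟩ := h₂
  obtain ⟨q, hq₁, hq₂⟩ := Scheme.Pullback.exists_preimage_pullback (f := G.s) (g := G.t) r₁ r₂ hr.symm
  have h := pullback.condition (f := G.s) (g := G.t)
  have hl : pullback.lift (pullback.fst G.s G.t) (pullback.snd G.s G.t) h = 𝟙 _ := by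
    apply pullback.hom_ext <;> simp [pullback.lift_fst, pullback.lift_snd]
  have e1 := G.comp_t _ _ h
  have e2 := G.comp_s _ _ h
  rw [hl, Category.id_comp] at e1 e2
  refine ⟨G.c q, ?_, ?_⟩
  · exact (congrArg (fun f => f q) e1).trans (congrArg G.t hq₁)
  · exact (congrArg (fun f => f q) e2).trans (congrArg G.s hq₂)

/-- the largest saturated open inside an open -/
def core [IsFinite G.t] (O : G.U.Opens) : G.U.Opens :=
  ⟨(G.t '' (G.s ⁻¹' (O : Set G.U)ᶜ))ᶜ,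
    (G.t.isClosedMap _ (O.2.isClosed_compl.preimage G.s.continuous)).isOpen_compl⟩

theorem mem_core [IsFinite G.t] {O : G.U.Opens} {x : G.U} : x ∈ core O ↔ ∀ y, Rel G x y → y ∈ O := by
  show x ∈ (G.t '' (G.s ⁻¹' (O : Set G.U)ᶜ))ᶜ ↔ _
  simp only [Set.mem_compl_iff, Set.mem_image, Set.mem_preimage, SetLike.mem_coe, not_exists, not_and]
  constructor
  · rintro h y ⟨r, hr, rfl⟩
    by_contra hy
    exact h r hy hr
  · intro h r hr hrx
    exact hr (h _ ⟨r, hrx, rfl⟩)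

theorem core_le [IsFinite G.t] (O : G.U.Opens) : core O ≤ O := fun x hx => mem_core.1 hx x (rel_refl x)

theorem core_invariant [IsFinite G.t] (O : G.U.Opens) : G.s ⁻¹ᵁ core O = G.t ⁻¹ᵁ core O := by
  ext r
  show G.s r ∈ core O ↔ G.t r ∈ core O
  rw [mem_core, mem_core]
  exact ⟨fun h y hy => h y (rel_trans (rel_symm ⟨r, rfl, rfl⟩) hy), fun h y hy => h y (rel_trans ⟨r, rfl, rfl⟩ hy)⟩

theorem rel_mem {W : G.U.Opens} (hW : G.s ⁻¹ᵁ W = G.t ⁻¹ᵁ W) {x y : G.U} (h : Rel G x y) (hx : x ∈ W) : y ∈ W := by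
  obtain ⟨r, rfl, rfl⟩ := h
  show r ∈ G.s ⁻¹ᵁ W
  rw [hW]; exact hx

theorem exists_invariant_affine [IsFinite G.s] [Flat G.s] [LocallyOfFinitePresentation G.s] [IsFinite G.t]
    (u : G.U) (V O : G.U.Opens) (hV : IsAffineOpen V) (hu : ∀ x, Rel G u x → x ∈ V ∧ x ∈ O) :
    ∃ W : G.U.Opens, IsAffineOpen W ∧ u ∈ W ∧ W ≤ O ∧ G.s ⁻¹ᵁ W = G.t ⁻¹ᵁ W := by
  haveI : IsAffine V.toScheme := hV
  let W₀ := core (G := G) (V ⊓ O)
  have horbit : ({x | Rel G u x} : Set G.U).Finite := by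
    refine ((IsFinite.finite_preimage_singleton G.s u).image G.t).subset ?_
    intro x hx
    obtain ⟨r, hr₁, hr₂⟩ := rel_symm hx
    exact ⟨r, hr₂, hr₁⟩
  obtain ⟨f, hf, hFf⟩ := exists_basicOpen (X := V.toScheme) (V.ι ⁻¹ᵁ W₀) (V.ι ⁻¹' {x | Rel G u x})
    (horbit.preimage V.ι.isOpenEmbedding.injective.injOn) (fun x hx => mem_core.2 fun y hy => hu y (rel_trans hx hy))
  let N : G.U.Opens := V.ι ''ᵁ V.toScheme.basicOpen f
  have hN : IsAffineOpen N := ((isAffineOpen_top V.toScheme).basicOpen f).image_of_isOpenImmersion V.ι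
  have hN₀ : ∀ x ∈ N, x ∈ W₀ := by rintro _ ⟨z, hz, rfl⟩; exact hf hz
  let W := core (G := G) N
  refine ⟨W, ?_, mem_core.2 fun y hy => ?_, fun x hx => (core_le _ (hN₀ x (core_le _ hx))).2, core_invariant N⟩
  swap
  · exact ⟨⟨y, (hu y hy).1⟩, hFf hy, rfl⟩
  haveI : IsAffine N.toScheme := hN
  let σ := G.s ∣_ N
  haveI : IsFinite σ := MorphismProperty.of_isPullback (isPullback_morphismRestrict G.s N).flip ‹_›
  haveI : Flat σ := MorphismProperty.of_isPullback (isPullback_morphismRestrict G.s N).flip ‹_›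
  haveI : LocallyOfFinitePresentation σ := MorphismProperty.of_isPullback (isPullback_morphismRestrict G.s N).flip ‹_›
  haveI : IsAffine (G.s ⁻¹ᵁ N).toScheme := hN.preimage G.s
  letI : Algebra Γ(N.toScheme, ⊤) Γ((G.s ⁻¹ᵁ N).toScheme, ⊤) := σ.appTop.hom.toAlgebra
  haveI : Module.Finite Γ(N.toScheme, ⊤) Γ((G.s ⁻¹ᵁ N).toScheme, ⊤) := σ.finite_appTop
  haveI : Module.Flat Γ(N.toScheme, ⊤) Γ((G.s ⁻¹ᵁ N).toScheme, ⊤) := HasRingHomProperty.appTop @Flat σ ‹_›
  haveI : Algebra.FinitePresentation Γ(N.toScheme, ⊤) Γ((G.s ⁻¹ᵁ N).toScheme, ⊤) :=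
    HasRingHomProperty.appTop @LocallyOfFinitePresentation σ ‹_›
  haveI : Module.FinitePresentation Γ(N.toScheme, ⊤) Γ((G.s ⁻¹ᵁ N).toScheme, ⊤) :=
    Module.FinitePresentation.of_finite_of_finitePresentation _ _
  haveI : Module.Projective Γ(N.toScheme, ⊤) Γ((G.s ⁻¹ᵁ N).toScheme, ⊤) := Module.Flat.projective_of_finitePresentation
  have hst : G.s ⁻¹ᵁ N ≤ G.t ⁻¹ᵁ V := fun r hr =>
    (core_le _ (rel_mem (core_invariant _) (rel_symm ⟨r, rfl, rfl⟩) (hN₀ _ hr))).1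
  let τ := G.t.resLE V (G.s ⁻¹ᵁ N) hst
  obtain ⟨D, hD⟩ := exists_det (A := Γ(N.toScheme, ⊤)) (τ.appTop.hom f)
  have hmem : ∀ (X : Scheme.{u}) [IsAffine X] (g : Γ(X, ⊤)) (x : X), x ∈ X.basicOpen g ↔ g ∉ (X.isoSpec.hom x).asIdeal :=
    fun X _ g x => by rw [← Scheme.toSpecΓ_preimage_basicOpen]; rfl
  suffices hW : W = N.ι ''ᵁ N.toScheme.basicOpen D by
    rw [hW]; exact ((isAffineOpen_top N.toScheme).basicOpen D).image_of_isOpenImmersion N.ι
  have hcomap : ∀ r : (G.s ⁻¹ᵁ N).toScheme, (N.toScheme.isoSpec.hom (σ r)).asIdeal =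
      (((G.s ⁻¹ᵁ N).toScheme.isoSpec.hom r).asIdeal).comap σ.appTop.hom := fun r => by
    rw [← Scheme.Hom.comp_apply, ← Scheme.isoSpec_hom_naturality]; rfl
  have hτ : ∀ r : (G.s ⁻¹ᵁ N).toScheme, τ.appTop.hom f ∉ ((G.s ⁻¹ᵁ N).toScheme.isoSpec.hom r).asIdeal ↔ G.t r.1 ∈ N := by
    intro r
    rw [← hmem, ← Scheme.preimage_basicOpen_top]
    have hv : (τ r).1 = G.t r.1 := congrArg (fun g => g r) (G.t.resLE_comp_ι (U := V) (V := G.s ⁻¹ᵁ N) hst)
    refine ⟨fun h => ⟨τ r, h, hv⟩, ?_⟩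
    rintro ⟨z, hz, hze⟩
    have : z = τ r := V.ι.isOpenEmbedding.injective (hze.trans hv.symm)
    show τ r ∈ V.toScheme.basicOpen f
    rw [← this]; exact hz
  ext x
  refine ⟨fun hx => ?_, ?_⟩
  · have hxN := core_le _ hx
    refine ⟨⟨x, hxN⟩, (hmem _ D _).2 fun hD' => ?_, rfl⟩
    obtain ⟨Q, hQ, hQq, hβ⟩ := (hD _ (N.toScheme.isoSpec.hom ⟨x, hxN⟩).isPrime).1 hD'
    obtain ⟨r, hr⟩ := (G.s ⁻¹ᵁ N).toScheme.isoSpec.hom.homeomorph.surjective ⟨Q, hQ⟩
    have hr' : ((G.s ⁻¹ᵁ N).toScheme.isoSpec.hom r).asIdeal = Q := congrArg PrimeSpectrum.asIdeal hr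
    have hσ : σ r = ⟨x, hxN⟩ := N.toScheme.isoSpec.hom.homeomorph.injective (PrimeSpectrum.ext (by
      show (N.toScheme.isoSpec.hom (σ r)).asIdeal = _
      rw [hcomap, hr']; exact hQq))
    have hs : G.s r.1 = x := (congrArg (fun g => g r) (morphismRestrict_ι G.s N)).symm.trans (congrArg Subtype.val hσ)
    have := (hτ r).2 (mem_core.1 hx _ (rel_symm ⟨r.1, rfl, hs⟩))
    exact this (hr'.symm ▸ hβ)
  · rintro ⟨z, hz, rfl⟩
    refine mem_core.2 fun y hy => ?_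
    obtain ⟨r, hr₁, hr₂⟩ := rel_symm hy
    have hrN : r ∈ G.s ⁻¹ᵁ N := by
      show G.s r ∈ N
      rw [hr₂]; exact z.2
    by_contra hy'
    refine (hmem _ D z).1 hz ((hD _ (N.toScheme.isoSpec.hom z).isPrime).2
      ⟨((G.s ⁻¹ᵁ N).toScheme.isoSpec.hom ⟨r, hrN⟩).asIdeal, ((G.s ⁻¹ᵁ N).toScheme.isoSpec.hom ⟨r, hrN⟩).isPrime, ?_, ?_⟩)
    · have hσ : σ ⟨r, hrN⟩ = z :=
        N.ι.isOpenEmbedding.injective ((congrArg (fun g => g ⟨r, hrN⟩) (morphismRestrict_ι G.s N)).trans hr₂)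
      rw [← hσ, hcomap]; rfl
    · by_contra hb
      exact hy' (hr₁ ▸ (hτ ⟨r, hrN⟩).1 hb)

end Groth.Agent.Coeq6.Invariant

end
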