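import Groth.Agent.Coeq6.Affine
import Groth.Agent.Coeq6.Invariant
import Groth.Agent.Grpd6.FlatQuot
import Mathlib.AlgebraicGeometry.Morphisms.Integral

/-!
Restriction of a groupoid to an invariant open; the affine quotient.
-/

universe u

open CategoryTheory AlgebraicGeometry Limits

set_option linter.style.haveILetI false
set_option backward.isDefEq.respectTransparency.types false

noncomputable section

namespace Groth.Agent.Coeq6.Restrict

variable {S : Scheme.{u}} (G : Grpd.GroupoidScheme S)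

instance isIso_i : IsIso G.i := ⟨G.i, by simpa using Grpd6.Basic.inv_inv (G := G) (𝟙 G.R),
  by simpa using Grpd6.Basic.inv_inv (G := G) (𝟙 G.R)⟩

theorem flags_t [IsFinite G.s] [Flat G.s] [LocallyOfFinitePresentation G.s] :
    IsFinite G.t ∧ Flat G.t ∧ LocallyOfFinitePresentation G.t := by
  rw [← G.i_s]
  exact ⟨inferInstance, inferInstance, inferInstance⟩

variable (W : G.U.Opens) (hW : G.s ⁻¹ᵁ W = G.t ⁻¹ᵁ W)

theorem e_le : W ≤ G.e ⁻¹ᵁ (G.s ⁻¹ᵁ W) := fun x hx => by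
  show G.s (G.e x) ∈ W
  rw [← Scheme.Hom.comp_apply, G.e_s]; exact hx

include hW in
theorem i_le : G.s ⁻¹ᵁ W ≤ G.i ⁻¹ᵁ (G.s ⁻¹ᵁ W) := fun r hr => by
  show G.s (G.i r) ∈ W
  rw [← Scheme.Hom.comp_apply, G.i_s]
  exact (hW ▸ hr : r ∈ G.t ⁻¹ᵁ W)

/-- source -/
abbrev rs : (G.s ⁻¹ᵁ W).toScheme ⟶ W.toScheme := G.s ∣_ W

/-- target -/
abbrev rt : (G.s ⁻¹ᵁ W).toScheme ⟶ W.toScheme := G.t.resLE W (G.s ⁻¹ᵁ W) hW.le

/-- the map on composable arrows -/
def incl : pullback (rs G W) (rt G W hW) ⟶ pullback G.s G.t :=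
  pullback.map _ _ _ _ (G.s ⁻¹ᵁ W).ι (G.s ⁻¹ᵁ W).ι W.ι (morphismRestrict_ι _ _)
    (Scheme.Hom.resLE_comp_ι _ _)

theorem incl_mem : Set.range ⇑(incl G W hW ≫ G.c) ⊆ Set.range ⇑(G.s ⁻¹ᵁ W).ι := by
  rintro _ ⟨q, rfl⟩
  rw [Scheme.Opens.range_ι]
  show G.s ((incl G W hW ≫ G.c) q) ∈ W
  have e2 := G.comp_s (pullback.fst G.s G.t) (pullback.snd G.s G.t) pullback.condition
  rw [show pullback.lift (pullback.fst G.s G.t) (pullback.snd G.s G.t) pullback.condition = 𝟙 _ by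
    apply pullback.hom_ext <;> simp [pullback.lift_fst, pullback.lift_snd], Category.id_comp] at e2
  rw [← Scheme.Hom.comp_apply, Category.assoc, e2,
    show incl G W hW ≫ pullback.snd G.s G.t ≫ G.s = pullback.snd (rs G W) (rt G W hW) ≫ rs G W ≫ W.ι by
      simp [incl, pullback.map, pullback.lift_snd_assoc]]
  exact (rs G W (pullback.snd (rs G W) (rt G W hW) q)).2

/-- composition -/
def rc : pullback (rs G W) (rt G W hW) ⟶ (G.s ⁻¹ᵁ W).toScheme :=
  IsOpenImmersion.lift (G.s ⁻¹ᵁ W).ι (incl G W hW ≫ G.c) (incl_mem G W hW)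

theorem rc_ι : rc G W hW ≫ (G.s ⁻¹ᵁ W).ι = incl G W hW ≫ G.c := IsOpenImmersion.lift_fac _ _ _

theorem cond {T : Scheme.{u}} {α β : T ⟶ (G.s ⁻¹ᵁ W).toScheme} (h : α ≫ rs G W = β ≫ rt G W hW) :
    (α ≫ (G.s ⁻¹ᵁ W).ι) ≫ G.s = (β ≫ (G.s ⁻¹ᵁ W).ι) ≫ G.t := by
  have := congrArg (· ≫ W.ι) h
  simpa using this

theorem lift_rc {T : Scheme.{u}} (α β : T ⟶ (G.s ⁻¹ᵁ W).toScheme) (h : α ≫ rs G W = β ≫ rt G W hW) :
    (pullback.lift α β h ≫ rc G W hW) ≫ (G.s ⁻¹ᵁ W).ι =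
      pullback.lift (α ≫ (G.s ⁻¹ᵁ W).ι) (β ≫ (G.s ⁻¹ᵁ W).ι) (cond G W hW h) ≫ G.c := by
  rw [Category.assoc, rc_ι, ← Category.assoc]
  congr 1
  apply pullback.hom_ext <;> simp [incl, pullback.map, pullback.lift_fst, pullback.lift_snd,
    pullback.lift_fst_assoc, pullback.lift_snd_assoc]

theorem comp_eq {T : Scheme.{u}} {a a' : T ⟶ G.R} {b b' : T ⟶ G.R} (ha : a = a') (hb : b = b') (h : a ≫ G.s = b ≫ G.t) :
    pullback.lift a b h ≫ G.c = pullback.lift a' b' (ha ▸ hb ▸ h) ≫ G.c := by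
  subst ha hb; rfl

/-- the restriction of a groupoid to an invariant open -/
def restr : Grpd.GroupoidScheme S where
  U := W.toScheme
  R := (G.s ⁻¹ᵁ W).toScheme
  pU := W.ι ≫ G.pU
  pR := (G.s ⁻¹ᵁ W).ι ≫ G.pR
  s := rs G W
  t := rt G W hW
  e := G.e.resLE (G.s ⁻¹ᵁ W) W (e_le G W)
  i := G.i.resLE (G.s ⁻¹ᵁ W) (G.s ⁻¹ᵁ W) (i_le G W hW)
  c := rc G W hW
  s_over := by simp [G.s_over]
  t_over := by simp [G.t_over]
  comp_s α β h := by
    rw [← cancel_mono W.ι]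
    simp only [Category.assoc, morphismRestrict_ι]
    rw [← Category.assoc (rc G W hW), ← Category.assoc (pullback.lift α β h),
      ← Category.assoc (pullback.lift α β h) (rc G W hW), lift_rc, G.comp_s, Category.assoc]
  comp_t α β h := by
    rw [← cancel_mono W.ι]
    simp only [Category.assoc, Scheme.Hom.resLE_comp_ι]
    rw [← Category.assoc (rc G W hW), ← Category.assoc (pullback.lift α β h),
      ← Category.assoc (pullback.lift α β h) (rc G W hW), lift_rc, G.comp_t, Category.assoc]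
  assoc α β γ h₁ h₂ := by
    refine (cancel_mono (G.s ⁻¹ᵁ W).ι).1 ((lift_rc G W hW _ _ _).trans (Eq.trans ?_ (lift_rc G W hW _ _ _).symm))
    refine (comp_eq G (lift_rc G W hW α β h₁) rfl _).trans ?_
    refine (G.assoc _ _ _ (cond G W hW h₁) (cond G W hW h₂)).trans ?_
    exact comp_eq G rfl (lift_rc G W hW β γ h₂).symm _
  e_s := by rw [← cancel_mono W.ι]; simp [G.e_s]
  e_t := by rw [← cancel_mono W.ι]; simp [G.e_t]
  comp_e α := by
    rw [← cancel_mono (G.s ⁻¹ᵁ W).ι, lift_rc]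
    refine (comp_eq G rfl (?_ : _ = (α ≫ (G.s ⁻¹ᵁ W).ι) ≫ G.s ≫ G.e) _).trans (G.comp_e _)
    simp
  e_comp α := by
    rw [← cancel_mono (G.s ⁻¹ᵁ W).ι, lift_rc]
    refine (comp_eq G (?_ : _ = (α ≫ (G.s ⁻¹ᵁ W).ι) ≫ G.t ≫ G.e) rfl _).trans (G.e_comp _)
    simp
  i_s := by rw [← cancel_mono W.ι]; simp [G.i_s]
  i_t := by rw [← cancel_mono W.ι]; simp [G.i_t]
  comp_i α := by
    rw [← cancel_mono (G.s ⁻¹ᵁ W).ι, lift_rc]
    refine ((comp_eq G rfl (?_ : _ = (α ≫ (G.s ⁻¹ᵁ W).ι) ≫ G.i) _).trans (G.comp_i _)).trans ?_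
    · simp
    · simp
  i_comp α := by
    rw [← cancel_mono (G.s ⁻¹ᵁ W).ι, lift_rc]
    refine ((comp_eq G (?_ : _ = (α ≫ (G.s ⁻¹ᵁ W).ι) ≫ G.i) rfl _).trans (G.i_comp _)).trans ?_
    · simp
    · simp

theorem flags [IsFinite G.s] [Flat G.s] [LocallyOfFinitePresentation G.s] :
    IsFinite (restr G W hW).s ∧ Flat (restr G W hW).s ∧ LocallyOfFinitePresentation (restr G W hW).s :=
  ⟨MorphismProperty.of_isPullback (isPullback_morphismRestrict G.s W).flip ‹_›,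
    MorphismProperty.of_isPullback (isPullback_morphismRestrict G.s W).flip ‹_›,
    MorphismProperty.of_isPullback (isPullback_morphismRestrict G.s W).flip ‹_›⟩

theorem mono_j [Mono G.j] : Mono (restr G W hW).j := by
  refine ⟨fun {T} a b h => ?_⟩
  have h1 := congrArg (· ≫ pullback.fst (restr G W hW).pU (restr G W hW).pU) h
  have h2 := congrArg (· ≫ pullback.snd (restr G W hW).pU (restr G W hW).pU) h
  simp only [Category.assoc, Grpd.GroupoidScheme.j, pullback.lift_fst, pullback.lift_snd] at h1 h2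
  have e1 : a ≫ (G.s ⁻¹ᵁ W).ι ≫ G.t = b ≫ (G.s ⁻¹ᵁ W).ι ≫ G.t := by
    have := congrArg (· ≫ W.ι) h1
    simpa [restr] using this
  have e2 : a ≫ (G.s ⁻¹ᵁ W).ι ≫ G.s = b ≫ (G.s ⁻¹ᵁ W).ι ≫ G.s := by
    have := congrArg (· ≫ W.ι) h2
    simpa [restr] using this
  apply (cancel_mono (G.s ⁻¹ᵁ W).ι).1
  apply (cancel_mono G.j).1
  apply pullback.hom_ext
  · simp only [Category.assoc, Grpd.GroupoidScheme.j, pullback.lift_fst]; exact e1
  · simp only [Category.assoc, Grpd.GroupoidScheme.j, pullback.lift_snd]; exact e2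

variable [IsAffine G.U] [IsFinite G.s] [Flat G.s] [LocallyOfFinitePresentation G.s]

theorem affineQuot : Pred.IsQuot G.s G.t G.toQuot ∧ IsIntegralHom G.toQuot := by
  haveI : IsAffine G.R := isAffine_of_isAffineHom G.s
  obtain ⟨_, _, _⟩ := flags_t G
  haveI hint : IsIntegralHom (Spec.map (CommRingCat.ofHom G.invariants.subtype)) :=
    IsIntegralHom.SpecMap_iff.mpr (Grpd6.CharRev.isIntegral (G := G)).isIntegral
  have hT : G.toQuot = G.U.isoSpec.hom ≫ Spec.map (CommRingCat.ofHom G.invariants.subtype) := rfl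
  haveI : IsIntegralHom G.toQuot := by rw [hT]; infer_instance
  have hsurj : Function.Surjective G.toQuot := Grpd6.QuotFibres.main.1.1
  have hrel : ∀ x y, G.toQuot x = G.toQuot y ↔ ∃ r : G.R, G.t r = x ∧ G.s r = y := Grpd6.QuotFibres.main.1.2
  refine ⟨Affine.isQuot G.s G.t G.toQuot Grpd6.QuotFibres.t_toQuot.symm hsurj (fun O hO => ?_)
    (fun x y h => (hrel x y).1 h) ?_ ?_, inferInstance⟩
  · let Z : Set G.U := (G.t '' (G.s ⁻¹' O))ᶜ
    have hZ : IsClosed Z := (G.t.isOpenMap _ (hO.preimage G.s.continuous)).isClosed_compl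
    have : G.toQuot '' O = (G.toQuot '' Z)ᶜ := by
      ext y
      obtain ⟨x, rfl⟩ := hsurj y
      constructor
      · rintro ⟨o, ho, he⟩ ⟨z, hz, hze⟩
        obtain ⟨r, hr₁, hr₂⟩ := (hrel z o).1 (hze.trans he.symm)
        exact hz ⟨r, by show G.s r ∈ O; rw [hr₂]; exact ho, hr₁⟩
      · intro h
        by_cases hx : x ∈ Z
        · exact (h ⟨x, hx, rfl⟩).elim
        · obtain ⟨r, hr, rfl⟩ := not_not.1 hx
          exact ⟨G.s r, hr, ((hrel _ _).2 ⟨r, rfl, rfl⟩).symm⟩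
    rw [this]
    exact (G.toQuot.isClosedMap _ hZ).isOpen_compl
  all_goals
    have e : G.toQuot.appTop = (Scheme.ΓSpecIso (CommRingCat.of G.invariants)).hom ≫ CommRingCat.ofHom G.invariants.subtype := by
      rw [Grpd.GroupoidScheme.toQuot, Scheme.Hom.comp_appTop, Scheme.toSpecΓ_appTop]
      exact Scheme.ΓSpecIso_naturality _
  · rw [e]
    exact Subtype.val_injective.comp (Scheme.ΓSpecIso (CommRingCat.of G.invariants)).commRingCatIsoToRingEquiv.injective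
  · intro a ha
    obtain ⟨z, hz⟩ := (Scheme.ΓSpecIso (CommRingCat.of G.invariants)).commRingCatIsoToRingEquiv.surjective ⟨a, ha⟩
    exact ⟨z, by rw [e]; exact congrArg Subtype.val hz⟩

end Groth.Agent.Coeq6.Restrict

end
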