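import Groth.Prelude.Def_Grpd
import Groth.Agent.Coeq6.Restrict
import Groth.Agent.Grpd6.Basic

/-!
Restriction of a groupoid scheme along a monomorphism.
-/

universe u

open CategoryTheory AlgebraicGeometry Limits

set_option linter.style.haveILetI false
set_option backward.isDefEq.respectTransparency.types false

noncomputable section

namespace Groth.Agent.Coeq6.Along

open Grpd6.Basic

variable {S : Scheme.{u}} (G : Grpd.GroupoidScheme S) {U' : Scheme.{u}} (u : U' ⟶ G.U)

/-- arrows with target in `U'` -/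
abbrev V : Scheme.{u} := pullback G.t u

/-- the source map of arrows with target in `U'` -/
abbrev sV : V G u ⟶ G.U := pullback.fst G.t u ≫ G.s

/-- the target map of arrows with target in `U'` -/
abbrev tV : V G u ⟶ U' := pullback.snd G.t u

/-- arrows between points of `U'` -/
abbrev R' : Scheme.{u} := pullback (sV G u) u

/-- as arrows -/
def ιR : R' G u ⟶ G.R := pullback.fst (sV G u) u ≫ pullback.fst G.t u

/-- target -/
def t' : R' G u ⟶ U' := pullback.fst (sV G u) u ≫ tV G u

/-- source -/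
def s' : R' G u ⟶ U' := pullback.snd (sV G u) u

@[reassoc]
theorem ιR_t : ιR G u ≫ G.t = t' G u ≫ u := by
  simp [ιR, t', pullback.condition]

@[reassoc]
theorem ιR_s : ιR G u ≫ G.s = s' G u ≫ u := by
  rw [ιR, Category.assoc]; exact pullback.condition

/-- points of the restricted arrows -/
def mk {T : Scheme.{u}} (r : T ⟶ G.R) (a b : T ⟶ U') (ha : r ≫ G.t = a ≫ u) (hb : r ≫ G.s = b ≫ u) :
    T ⟶ R' G u :=
  pullback.lift (pullback.lift r a ha) b (by rw [sV, pullback.lift_fst_assoc]; exact hb)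

@[reassoc (attr := simp)]
theorem mk_ι {T : Scheme.{u}} (r : T ⟶ G.R) (a b : T ⟶ U') (ha : r ≫ G.t = a ≫ u) (hb : r ≫ G.s = b ≫ u) :
    mk G u r a b ha hb ≫ ιR G u = r := by
  simp [mk, ιR, pullback.lift_fst_assoc, pullback.lift_fst]

@[reassoc (attr := simp)]
theorem mk_t {T : Scheme.{u}} (r : T ⟶ G.R) (a b : T ⟶ U') (ha : r ≫ G.t = a ≫ u) (hb : r ≫ G.s = b ≫ u) :
    mk G u r a b ha hb ≫ t' G u = a := by
  simp [mk, t', pullback.lift_fst_assoc, pullback.lift_snd]

@[reassoc (attr := simp)]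
theorem mk_s {T : Scheme.{u}} (r : T ⟶ G.R) (a b : T ⟶ U') (ha : r ≫ G.t = a ≫ u) (hb : r ≫ G.s = b ≫ u) :
    mk G u r a b ha hb ≫ s' G u = b := by
  simp [mk, s', pullback.lift_snd]

variable [Mono u]

theorem ext {T : Scheme.{u}} {α β : T ⟶ R' G u} (h : α ≫ ιR G u = β ≫ ιR G u) : α = β := by
  have ht : α ≫ t' G u = β ≫ t' G u := by
    rw [← cancel_mono u, Category.assoc, Category.assoc, ← ιR_t, reassoc_of% h]
  have hs : α ≫ s' G u = β ≫ s' G u := by
    rw [← cancel_mono u, Category.assoc, Category.assoc, ← ιR_s, reassoc_of% h]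
  apply pullback.hom_ext
  · apply pullback.hom_ext
    · simpa [ιR, Category.assoc] using h
    · simpa [t', Category.assoc] using ht
  · exact hs

omit [Mono u] in
theorem cond {T : Scheme.{u}} {α β : T ⟶ R' G u} (h : α ≫ s' G u = β ≫ t' G u) :
    (α ≫ ιR G u) ≫ G.s = (β ≫ ιR G u) ≫ G.t := by
  rw [Category.assoc, Category.assoc, ιR_s, ιR_t, reassoc_of% h]

/-- composition of restricted arrows -/
def c' : pullback (s' G u) (t' G u) ⟶ R' G u :=
  mk G u (comp G (pullback.fst (s' G u) (t' G u) ≫ ιR G u) (pullback.snd (s' G u) (t' G u) ≫ ιR G u)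
      (cond G u pullback.condition))
    (pullback.fst (s' G u) (t' G u) ≫ t' G u) (pullback.snd (s' G u) (t' G u) ≫ s' G u)
    (by rw [comp_t', Category.assoc, ιR_t, ← Category.assoc])
    (by rw [comp_s', Category.assoc, ιR_s, ← Category.assoc])

omit [Mono u] in
theorem lift_c' {T : Scheme.{u}} (α β : T ⟶ R' G u) (h : α ≫ s' G u = β ≫ t' G u) :
    (pullback.lift α β h ≫ c' G u) ≫ ιR G u = comp G (α ≫ ιR G u) (β ≫ ιR G u) (cond G u h) := by
  rw [Category.assoc, c', mk_ι, comp_pre]
  exact comp_congr _ (by rw [pullback.lift_fst_assoc]) (by rw [pullback.lift_snd_assoc])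

/-- the restriction of a groupoid along a monomorphism -/
def restrAlong : Grpd.GroupoidScheme S where
  U := U'
  R := R' G u
  pU := u ≫ G.pU
  pR := ιR G u ≫ G.pR
  s := s' G u
  t := t' G u
  e := mk G u (u ≫ G.e) (𝟙 U') (𝟙 U') (by simp [G.e_t]) (by simp [G.e_s])
  i := mk G u (ιR G u ≫ G.i) (s' G u) (t' G u) (by rw [Category.assoc, G.i_t, ιR_s])
    (by rw [Category.assoc, G.i_s, ιR_t])
  c := c' G u
  s_over := by rw [← G.s_over, ← Category.assoc, ← Category.assoc, ιR_s]
  t_over := by rw [← G.t_over, ← Category.assoc, ← Category.assoc, ιR_t]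
  comp_s α β h := by
    rw [← cancel_mono u, Category.assoc, ← ιR_s, ← Category.assoc, lift_c', comp_s', Category.assoc, ιR_s,
      ← Category.assoc]
  comp_t α β h := by
    rw [← cancel_mono u, Category.assoc, ← ιR_t, ← Category.assoc, lift_c', comp_t', Category.assoc, ιR_t,
      ← Category.assoc]
  assoc α β γ h₁ h₂ := by
    refine ext G u ((lift_c' G u _ _ _).trans (Eq.trans ?_ (lift_c' G u _ _ _).symm))
    refine (comp_congr _ (lift_c' G u α β h₁) rfl).trans ?_
    refine (G.assoc _ _ _ (cond G u h₁) (cond G u h₂)).trans ?_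
    exact comp_congr _ rfl (lift_c' G u β γ h₂).symm
  e_s := mk_s ..
  e_t := mk_t ..
  comp_e α := by
    refine ext G u ((lift_c' G u _ _ _).trans ((comp_congr _ rfl ?_).trans (G.comp_e (α ≫ ιR G u))))
    rw [Category.assoc, Category.assoc, mk_ι, Category.assoc α (ιR G u), ιR_s_assoc]
  e_comp α := by
    refine ext G u ((lift_c' G u _ _ _).trans ((comp_congr _ ?_ rfl).trans (G.e_comp (α ≫ ιR G u))))
    rw [Category.assoc, Category.assoc, mk_ι, Category.assoc α (ιR G u), ιR_t_assoc]
  i_s := mk_s ..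
  i_t := mk_t ..
  comp_i α := by
    refine ext G u ((lift_c' G u _ _ _).trans (((comp_congr _ rfl ?_).trans (G.comp_i (α ≫ ιR G u))).trans ?_))
    · rw [Category.assoc, mk_ι, Category.assoc]
    · simp only [Category.assoc, mk_ι, Category.assoc α (ιR G u), ιR_t_assoc]
  i_comp α := by
    refine ext G u ((lift_c' G u _ _ _).trans (((comp_congr _ ?_ rfl).trans (G.i_comp (α ≫ ιR G u))).trans ?_))
    · rw [Category.assoc, mk_ι, Category.assoc]
    · simp only [Category.assoc, mk_ι, Category.assoc α (ιR G u), ιR_s_assoc]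

theorem mono_j [Mono G.j] : Mono (restrAlong G u).j := by
  refine ⟨fun {T} a b h => ?_⟩
  have h1 := congrArg (· ≫ pullback.fst (restrAlong G u).pU (restrAlong G u).pU) h
  have h2 := congrArg (· ≫ pullback.snd (restrAlong G u).pU (restrAlong G u).pU) h
  simp only [Category.assoc, Grpd.GroupoidScheme.j, pullback.lift_fst, pullback.lift_snd] at h1 h2
  let a₀ : T ⟶ R' G u := a
  let b₀ : T ⟶ R' G u := b
  have h1' : a₀ ≫ t' G u = b₀ ≫ t' G u := h1
  have h2' : a₀ ≫ s' G u = b₀ ≫ s' G u := h2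
  refine ext G u (α := a₀) (β := b₀) ?_
  apply (cancel_mono G.j).1
  apply pullback.hom_ext
  · simp only [Category.assoc, Grpd.GroupoidScheme.j, pullback.lift_fst]
    rw [ιR_t, reassoc_of% h1']
  · simp only [Category.assoc, Grpd.GroupoidScheme.j, pullback.lift_snd]
    rw [ιR_s, reassoc_of% h2']

end Groth.Agent.Coeq6.Along

end
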