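import Groth.Agent.Coeq6.Glue

/-!
Coequalizers of finite locally free groupoids.
-/

universe u

open CategoryTheory AlgebraicGeometry Limits

set_option linter.style.haveILetI false
set_option backward.isDefEq.respectTransparency.types false

noncomputable section

namespace Groth.Agent.Coeq6.Main

open Pred Restrict Invariant Glue

variable {S : Scheme.{u}} (G : Grpd.GroupoidScheme S) [IsFinite G.s] [Flat G.s] [LocallyOfFinitePresentation G.s]

theorem cov (hb : ∀ x : G.U, ∃ V : G.U.Opens, IsAffineOpen V ∧ G.t.base '' (G.s.base ⁻¹' {x}) ⊆ (V : Set G.U))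
    (u : G.U) (O : G.U.Opens) (hu : ∀ x, Rel G u x → x ∈ O) :
    ∃ W : G.U.Opens, IsAffineOpen W ∧ u ∈ W ∧ W ≤ O ∧ G.s ⁻¹ᵁ W = G.t ⁻¹ᵁ W := by
  obtain ⟨V, hV, hsub⟩ := hb u
  obtain ⟨_, _, _⟩ := flags_t G
  refine exists_invariant_affine u V O hV fun x hx => ⟨?_, hu x hx⟩
  obtain ⟨r, hr₁, hr₂⟩ := rel_symm hx
  exact hsub ⟨r, hr₂, hr₁⟩

variable {Y : Scheme.{u}} {p : G.U ⟶ Y} {ι : ∀ W : Idx G, Mloc W ⟶ Y} [∀ W, IsOpenImmersion (ι W)]
  (hp : ∀ W : Idx G, W.1.ι ≫ p = q W ≫ ι W) (hpre : ∀ W : Idx G, p ⁻¹' Set.range (ι W) = (W.1 : Set G.U))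

omit [IsFinite G.s] [Flat G.s] [LocallyOfFinitePresentation G.s] [∀ W, IsOpenImmersion (ι W)] in
include hp hpre in
theorem mem_of_eq (W : Idx G) {T : Scheme.{u}} (a b : T ⟶ G.U) (h : a ≫ p = b ≫ p) (x : T) (hx : a x ∈ W.1) :
    b x ∈ W.1 := by
  refine (hpre W).le ⟨q W ⟨a x, hx⟩, ?_⟩
  rw [← Scheme.Hom.comp_apply b, ← h, Scheme.Hom.comp_apply]
  exact (congrArg (fun f => f ⟨a x, hx⟩) (hp W)).symm

include hp hpre in
theorem lift_surjective (H : IsQuot G.s G.t p) (hpt : ∀ x : G.U, ∃ W : Idx G, x ∈ W.1) :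
    Function.Surjective (pullback.lift G.t G.s H.w.symm) := by
  intro z
  let K := AlgebraicClosure ((pullback p p).residueField z)
  let j := Spec.map (CommRingCat.ofHom (algebraMap ((pullback p p).residueField z) K)) ≫ (pullback p p).fromSpecResidueField z
  have hj : j (IsLocalRing.closedPoint K) = z := by
    rw [Scheme.Hom.comp_apply, Scheme.fromSpecResidueField_apply]
  let a := j ≫ pullback.fst p p
  let b := j ≫ pullback.snd p p
  have hab : a ≫ p = b ≫ p := by simp only [a, b, Category.assoc, pullback.condition]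
  obtain ⟨W, hW⟩ := hpt (a (IsLocalRing.closedPoint K))
  have ha : Set.range a ⊆ Set.range W.1.ι := by
    rintro _ ⟨x, rfl⟩; rw [Scheme.Opens.range_ι, Subsingleton.elim x (IsLocalRing.closedPoint K)]; exact hW
  have hb' : Set.range b ⊆ Set.range W.1.ι := by
    rintro _ ⟨x, rfl⟩
    rw [Scheme.Opens.range_ι]
    exact mem_of_eq G hp hpre W a b hab x (by rw [Subsingleton.elim x (IsLocalRing.closedPoint K)]; exact hW)
  let a' : Spec (CommRingCat.of K) ⟶ W.1.toScheme := IsOpenImmersion.lift W.1.ι a ha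
  let b' : Spec (CommRingCat.of K) ⟶ W.1.toScheme := IsOpenImmersion.lift W.1.ι b hb'
  have ha' : a' ≫ W.1.ι = a := IsOpenImmersion.lift_fac _ _ _
  have hb'' : b' ≫ W.1.ι = b := IsOpenImmersion.lift_fac _ _ _
  haveI : IsAffine (restr G W.1 W.2.1).U := W.2.2
  obtain ⟨_, _, _⟩ := flags G W.1 W.2.1
  haveI : IsAffine (restr G W.1 W.2.1).R := isAffine_of_isAffineHom (restr G W.1 W.2.1).s
  have e : a' ≫ q W = b' ≫ q W := by
    rw [← cancel_mono (ι W), Category.assoc, Category.assoc, ← hp, reassoc_of% ha', reassoc_of% hb'', hab]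
  obtain ⟨r₀, hr₁', hr₂'⟩ := Grpd6.QuotFibres.exists_arrow (G := restr G W.1 W.2.1) a' b' e
  let r : Spec (CommRingCat.of K) ⟶ (G.s ⁻¹ᵁ W.1).toScheme := r₀
  have hr₁ : r ≫ rt G W.1 W.2.1 = a' := hr₁'
  have hr₂ : r ≫ rs G W.1 = b' := hr₂'
  have e₁ : (r ≫ (G.s ⁻¹ᵁ W.1).ι) ≫ G.t = a := by
    rw [← ha', ← hr₁, Category.assoc, Category.assoc]
    exact congrArg (r ≫ ·) (G.t.resLE_comp_ι W.2.1.le).symm
  have e₂ : (r ≫ (G.s ⁻¹ᵁ W.1).ι) ≫ G.s = b := by
    rw [← hb'', ← hr₂, Category.assoc, Category.assoc]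
    exact congrArg (r ≫ ·) (morphismRestrict_ι G.s W.1).symm
  refine ⟨(r ≫ (G.s ⁻¹ᵁ W.1).ι) (IsLocalRing.closedPoint K), ?_⟩
  have : (r ≫ (G.s ⁻¹ᵁ W.1).ι) ≫ pullback.lift G.t G.s H.w.symm = j := by
    apply pullback.hom_ext
    · rw [Category.assoc, pullback.lift_fst, e₁]
    · rw [Category.assoc, pullback.lift_snd, e₂]
  rw [← Scheme.Hom.comp_apply, this, hj]

include hp hpre in
theorem isPullback (H : IsQuot G.s G.t p) (hpt : ∀ x : G.U, ∃ W : Idx G, x ∈ W.1) [Mono G.j] :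
    IsPullback G.t G.s p p := by
  let L := pullback.lift G.t G.s H.w.symm
  have joint : ∀ {T : Scheme.{u}} (r r' : T ⟶ G.R), r ≫ G.t = r' ≫ G.t → r ≫ G.s = r' ≫ G.s → r = r' := by
    intro T r r' h₁ h₂
    rw [← cancel_mono G.j]
    apply pullback.hom_ext
    · simpa [Grpd.GroupoidScheme.j, pullback.lift_fst] using h₁
    · simpa [Grpd.GroupoidScheme.j, pullback.lift_snd] using h₂
  let a := pullback.fst p p
  let b := pullback.snd p p
  have hloc : ∀ W : Idx G, ∃ r : (a ⁻¹ᵁ W.1).toScheme ⟶ G.R,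
      r ≫ G.t = (a ⁻¹ᵁ W.1).ι ≫ a ∧ r ≫ G.s = (a ⁻¹ᵁ W.1).ι ≫ b := by
    intro W
    haveI : IsAffine (restr G W.1 W.2.1).U := W.2.2
    obtain ⟨_, _, _⟩ := flags G W.1 W.2.1
    haveI : IsAffine (restr G W.1 W.2.1).R := isAffine_of_isAffineHom (restr G W.1 W.2.1).s
    haveI := mono_j G W.1 W.2.1
    obtain ⟨-, φ, hφ₁, hφ₂⟩ := Grpd6.FlatQuot.main (restr G W.1 W.2.1)
    let a' := a.resLE W.1 (a ⁻¹ᵁ W.1) le_rfl
    let b' := b.resLE W.1 (a ⁻¹ᵁ W.1) (fun z hz => mem_of_eq G hp hpre W a b pullback.condition z hz)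
    have e : a' ≫ q W = b' ≫ q W := by
      rw [← cancel_mono (ι W), Category.assoc, Category.assoc, ← hp]
      simp only [a', b', Scheme.Hom.resLE_comp_ι_assoc, a, b, pullback.condition]
    let ψ : pullback (q W) (q W) ⟶ (G.s ⁻¹ᵁ W.1).toScheme := φ.inv
    refine ⟨(pullback.lift a' b' e ≫ ψ) ≫ (G.s ⁻¹ᵁ W.1).ι, ?_, ?_⟩
    · have h : ψ ≫ rt G W.1 W.2.1 = pullback.fst (q W) (q W) := (Iso.inv_comp_eq _).2 hφ₁.symm
      calc _ = (pullback.lift a' b' e ≫ ψ) ≫ rt G W.1 W.2.1 ≫ W.1.ι := by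
            rw [Category.assoc]; exact congrArg _ (G.t.resLE_comp_ι W.2.1.le).symm
        _ = pullback.lift a' b' e ≫ (ψ ≫ rt G W.1 W.2.1) ≫ W.1.ι := by
            simp only [Category.assoc]
        _ = _ := by rw [h, pullback.lift_fst_assoc, Scheme.Hom.resLE_comp_ι]
    · have h : ψ ≫ rs G W.1 = pullback.snd (q W) (q W) := (Iso.inv_comp_eq _).2 hφ₂.symm
      calc _ = (pullback.lift a' b' e ≫ ψ) ≫ rs G W.1 ≫ W.1.ι := by
            rw [Category.assoc]; exact congrArg _ (morphismRestrict_ι G.s W.1).symm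
        _ = pullback.lift a' b' e ≫ (ψ ≫ rs G W.1) ≫ W.1.ι := by
            simp only [Category.assoc]
        _ = _ := by rw [h, pullback.lift_snd_assoc, Scheme.Hom.resLE_comp_ι]
  choose r hr₁ hr₂ using hloc
  let 𝒰 := (pullback p p).openCoverOfIsOpenCover (fun W : Idx G => a ⁻¹ᵁ W.1)
    (TopologicalSpace.IsOpenCover.mk (eq_top_iff.2 fun z _ => TopologicalSpace.Opens.mem_iSup.2 (hpt (a z))))
  have hgl : ∀ W₁ W₂ : Idx G, pullback.fst (a ⁻¹ᵁ W₁.1).ι (a ⁻¹ᵁ W₂.1).ι ≫ r W₁ =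
      pullback.snd (a ⁻¹ᵁ W₁.1).ι (a ⁻¹ᵁ W₂.1).ι ≫ r W₂ := fun W₁ W₂ => joint _ _
    (by simp only [Category.assoc, hr₁, pullback.condition_assoc])
    (by simp only [Category.assoc, hr₂, pullback.condition_assoc])
  let inv := 𝒰.glueMorphisms r hgl
  have hinv : ∀ W : Idx G, (a ⁻¹ᵁ W.1).ι ≫ inv = r W := fun W => Scheme.Cover.ι_glueMorphisms 𝒰 r hgl W
  have i₁ : inv ≫ G.t = a := Scheme.Cover.hom_ext 𝒰 _ _ fun (W : Idx G) => by
    show (a ⁻¹ᵁ W.1).ι ≫ inv ≫ G.t = _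
    rw [reassoc_of% (hinv W), hr₁]; rfl
  have i₂ : inv ≫ G.s = b := Scheme.Cover.hom_ext 𝒰 _ _ fun (W : Idx G) => by
    show (a ⁻¹ᵁ W.1).ι ≫ inv ≫ G.s = _
    rw [reassoc_of% (hinv W), hr₂]; rfl
  haveI : IsIso L := ⟨inv, joint _ _ (by rw [Category.assoc, i₁]; simp [L, a, pullback.lift_fst])
      (by rw [Category.assoc, i₂]; simp [L, b, pullback.lift_snd]),
    pullback.hom_ext (by rw [Category.assoc, pullback.lift_fst, i₁]; simp [a])
      (by rw [Category.assoc, pullback.lift_snd, i₂]; simp [b])⟩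
  exact IsPullback.of_iso_pullback ⟨H.w.symm⟩ (asIso L) (pullback.lift_fst _ _ _) (pullback.lift_snd _ _ _)

include hp hpre in
theorem finLocFree [Mono G.j] (hcovY : ∀ y, ∃ W m, ι W m = y) : IsFinite p ∧ Flat p ∧ LocallyOfFinitePresentation p := by
  have htop : ⨆ W : Idx G, (ι W).opensRange = ⊤ :=
    eq_top_iff.2 fun y _ => TopologicalSpace.Opens.mem_iSup.2 (hcovY y)
  have e : ∀ W : Idx G, ∃ e : (p ⁻¹ᵁ (ι W).opensRange).toScheme ≅ W.1.toScheme,
      p ∣_ (ι W).opensRange = e.hom ≫ q W ≫ (ι W).isoOpensRange.hom := fun W => by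
    refine ⟨G.U.isoOfEq (TopologicalSpace.Opens.ext (hpre W)), ?_⟩
    rw [← cancel_mono (ι W).opensRange.ι]
    simp [← hp W]
  have key : ∀ W : Idx G, IsFinite (q W) ∧ Flat (q W) ∧ LocallyOfFinitePresentation (q W) := fun W => by
    haveI : IsAffine (restr G W.1 W.2.1).U := W.2.2
    obtain ⟨_, _, _⟩ := flags G W.1 W.2.1
    haveI : IsAffine (restr G W.1 W.2.1).R := isAffine_of_isAffineHom (restr G W.1 W.2.1).s
    haveI := mono_j G W.1 W.2.1
    exact (Grpd6.FlatQuot.main (restr G W.1 W.2.1)).1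
  refine ⟨?_, ?_, ?_⟩
  · refine (IsZariskiLocalAtTarget.iff_of_iSup_eq_top (P := @IsFinite) _ htop).2 fun W => ?_
    obtain ⟨e, he⟩ := e W; haveI := (key W).1; rw [he]; infer_instance
  · refine (IsZariskiLocalAtTarget.iff_of_iSup_eq_top (P := @Flat) _ htop).2 fun W => ?_
    obtain ⟨e, he⟩ := e W; haveI := (key W).2.1; rw [he]; infer_instance
  · refine (IsZariskiLocalAtTarget.iff_of_iSup_eq_top (P := @LocallyOfFinitePresentation) _ htop).2 fun W => ?_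
    obtain ⟨e, he⟩ := e W; haveI := (key W).2.2; rw [he]; infer_instance

end Groth.Agent.Coeq6.Main

namespace Groth.Agent.Coeq6.Main

open Pred Restrict Invariant Glue

variable {S : Scheme.{u}} (G : Grpd.GroupoidScheme S) [IsFinite G.s] [Flat G.s] [LocallyOfFinitePresentation G.s]

theorem coequalizer (hb : ∀ x : G.U, ∃ V : G.U.Opens, IsAffineOpen V ∧ G.t.base '' (G.s.base ⁻¹' {x}) ⊆ (V : Set G.U)) :
    ∃ (Y : Scheme.{u}) (p : G.U ⟶ Y) (w : G.t ≫ p = G.s ≫ p),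
      Nonempty (IsColimit (Cofork.ofπ p w)) ∧ IsIntegralHom p ∧ Surjective p ∧ IsOpenMap p.base ∧
      (∀ x y : G.U, p.base x = p.base y ↔ ∃ r : G.R, G.t.base r = x ∧ G.s.base r = y) ∧
      Function.Surjective (pullback.lift G.t G.s w).base ∧ (IsAffine G.U → IsAffine Y) := by
  obtain ⟨Y, p, ι, hι, hY, hp, hpre, H, hint⟩ := exists_quot (cov G hb)
  haveI := hι
  have hpt : ∀ x : G.U, ∃ W : Idx G, x ∈ W.1 := fun x => by
    obtain ⟨W, hW, hx, -, hinv⟩ := cov G hb x ⊤ (fun _ _ => trivial)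
    exact ⟨⟨W, hinv, hW⟩, hx⟩
  refine ⟨Y, p, H.w.symm, ⟨?_⟩, hint, ⟨H.surj⟩, H.isOpenMap, fun x y => ⟨H.rel x y, ?_⟩,
    lift_surjective G hp hpre H hpt, fun hU => ?_⟩
  · refine Cofork.IsColimit.mk _ (fun c => (exists_desc H c.π c.condition.symm).choose)
      (fun c => (exists_desc H c.π c.condition.symm).choose_spec)
      (fun c m hm => unique_desc H _ _ (hm.trans (exists_desc H c.π c.condition.symm).choose_spec.symm))
  · rintro ⟨r, rfl, rfl⟩
    exact (congrArg (fun f => f r) H.w).symm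
  · let W : Idx G := ⟨⊤, rfl, isAffineOpen_top G.U⟩
    haveI : Surjective (ι W) := ⟨fun y => by
      obtain ⟨x, rfl⟩ := H.surj y
      exact (hpre W).ge (trivial : x ∈ (⊤ : G.U.Opens))⟩
    haveI : IsIso (ι W) := (isIso_iff_isOpenImmersion_and_epi_base _).2 ⟨inferInstance, (TopCat.epi_iff_surjective _).2 (ι W).surjective⟩
    exact IsAffine.of_isIso (inv (ι W))

theorem isPullback_finLocFree (hb : ∀ x : G.U, ∃ V : G.U.Opens, IsAffineOpen V ∧ G.t.base '' (G.s.base ⁻¹' {x}) ⊆ (V : Set G.U))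
    [Mono G.j] (Y' : Scheme.{u}) (p' : G.U ⟶ Y') (w : G.t ≫ p' = G.s ≫ p') (hc : IsColimit (Cofork.ofπ p' w)) :
    IsPullback G.t G.s p' p' ∧ IsFinite p' ∧ Flat p' ∧ LocallyOfFinitePresentation p' := by
  obtain ⟨Y, p, ι, hι, hY, hp, hpre, H, hint⟩ := exists_quot (cov G hb)
  haveI := hι
  have hpt : ∀ x : G.U, ∃ W : Idx G, x ∈ W.1 := fun x => by
    obtain ⟨W, hW, hx, -, hinv⟩ := cov G hb x ⊤ (fun _ _ => trivial)
    exact ⟨⟨W, hinv, hW⟩, hx⟩
  obtain ⟨u, hu⟩ := exists_desc H p' w.symm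
  obtain ⟨v, hv⟩ := Cofork.IsColimit.desc' hc p H.w.symm
  have hv : p' ≫ v = p := hv
  haveI : IsIso u := ⟨v, unique_desc H _ _ (by rw [reassoc_of% hu, hv, Category.comp_id]),
    Cofork.IsColimit.hom_ext hc (by
      show p' ≫ v ≫ u = p' ≫ 𝟙 _
      rw [reassoc_of% hv, hu, Category.comp_id])⟩
  obtain ⟨h₁, h₂, h₃⟩ := finLocFree G hp hpre hY
  refine ⟨?_, ?_, ?_, ?_⟩
  · refine (isPullback G hp hpre H hpt).of_iso (Iso.refl _) (Iso.refl _) (Iso.refl _) (asIso u) ?_ ?_ ?_ ?_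
    · simp
    · simp
    · simp [hu]
    · simp [hu]
  all_goals rw [← hu]; infer_instance

end Groth.Agent.Coeq6.Main

end
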