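import Mathlib.AlgebraicGeometry.Restrict
import Mathlib.AlgebraicGeometry.Morphisms.UniversallyOpen
import Mathlib.AlgebraicGeometry.Gluing
import Mathlib.CategoryTheory.Limits.Shapes.Equalizers

/-!
Locally affine quotients of a pair of maps are coequalizers of schemes.
-/

universe u

open CategoryTheory AlgebraicGeometry Limits

set_option linter.style.haveILetI false
set_option backward.isDefEq.respectTransparency.types false

noncomputable section

namespace Groth.Agent.Coeq6.Pred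

variable {R U M : Scheme.{u}} (s t : R ⟶ U)

/-- a map on an open subscheme identifying related points -/
def Inv (O : U.Opens) {Z : Scheme.{u}} (g : O.toScheme ⟶ Z) : Prop :=
  ∀ (T : Scheme.{u}) (r : T ⟶ R) (a b : T ⟶ O.toScheme), a ≫ O.ι = r ≫ s → b ≫ O.ι = r ≫ t → a ≫ g = b ≫ g

/-- maps to affine schemes descend uniquely -/
def AffUniv (p : U ⟶ M) (E : M.Opens) : Prop :=
  ∀ (Z : Scheme.{u}) [IsAffine Z] (g : (p ⁻¹ᵁ E).toScheme ⟶ Z), Inv s t (p ⁻¹ᵁ E) g → ∃! u, p ∣_ E ≫ u = g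

/-- a topological quotient by an equivalence relation that is locally a quotient for affine targets -/
structure IsQuot (p : U ⟶ M) : Prop where
  w : s ≫ p = t ≫ p
  surj : Function.Surjective p
  isOpenMap : IsOpenMap p
  rel : ∀ x y : U, p x = p y → ∃ r : R, t r = x ∧ s r = y
  loc : ∀ (y : M) (V : M.Opens), y ∈ V → ∃ E : M.Opens, y ∈ E ∧ E ≤ V ∧ AffUniv s t p E

variable {s t} {p : U ⟶ M}

theorem morphismRestrict_surjective (H : IsQuot s t p) (V : M.Opens) : Function.Surjective (p ∣_ V) := by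
  intro v
  obtain ⟨x, hx⟩ := H.surj v.1
  refine ⟨⟨x, show p x ∈ V from hx.symm ▸ v.2⟩, Subtype.ext ?_⟩
  exact (congrArg (fun f => f ⟨x, show p x ∈ V from hx.symm ▸ v.2⟩) (morphismRestrict_ι p V)).trans hx

theorem inv_comp (H : IsQuot s t p) (E : M.Opens) {Z : Scheme.{u}} (u : E.toScheme ⟶ Z) :
    Inv s t (p ⁻¹ᵁ E) (p ∣_ E ≫ u) := by
  intro T r a b ha hb
  have : a ≫ p ∣_ E = b ≫ p ∣_ E := by
    rw [← cancel_mono E.ι, Category.assoc, Category.assoc, morphismRestrict_ι, reassoc_of% ha, reassoc_of% hb, H.w]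
  rw [reassoc_of% this]

theorem epi (H : IsQuot s t p) (V : M.Opens) {Z : Scheme.{u}} (u v : V.toScheme ⟶ Z)
    (h : p ∣_ V ≫ u = p ∣_ V ≫ v) : u = v := by
  have hb : ∀ y : V.toScheme, u y = v y := fun y => by
    obtain ⟨x, rfl⟩ := morphismRestrict_surjective H V y
    exact congrArg (fun f => f x) h
  have key : ∀ y : V.toScheme, ∃ O : V.toScheme.Opens, y ∈ O ∧ O.ι ≫ u = O.ι ≫ v := by
    intro y
    obtain ⟨_, ⟨Z', hZ₀, rfl⟩, hyZ, -⟩ := Z.isBasis_affineOpens.exists_subset_of_mem_open (Set.mem_univ (u y)) isOpen_univ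
    let Z₀ : Z.Opens := Z'
    haveI : IsAffine Z₀.toScheme := hZ₀
    obtain ⟨E, hyE, hEV, hE⟩ := H.loc y.1 (V.ι ''ᵁ (u ⁻¹ᵁ Z₀)) ⟨y, hyZ, rfl⟩
    have hle : E ≤ V := hEV.trans (V.ι_image_le _)
    let i : E.toScheme ⟶ V.toScheme := M.homOfLE hle
    have hi : ∀ e, u (i e) ∈ Z₀ := by
      intro e
      obtain ⟨z, hz, hze⟩ := hEV e.2
      have : i e = z := V.ι.isOpenEmbedding.injective (by
        rw [← Scheme.Hom.comp_apply, Scheme.homOfLE_ι]; exact hze.symm)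
      rw [this]; exact hz
    let u' : E.toScheme ⟶ Z₀.toScheme := IsOpenImmersion.lift Z₀.ι (i ≫ u) (by
      rintro _ ⟨e, rfl⟩; rw [Scheme.Opens.range_ι]; exact hi e)
    let v' : E.toScheme ⟶ Z₀.toScheme := IsOpenImmersion.lift Z₀.ι (i ≫ v) (by
      rintro _ ⟨e, rfl⟩; rw [Scheme.Opens.range_ι, Scheme.Hom.comp_apply, ← hb]; exact hi e)
    have e1 : u' = v' := by
      obtain ⟨w, -, hw⟩ := hE _ (p ∣_ E ≫ u') (inv_comp H E u')
      refine (hw u' rfl).trans (hw v' ?_).symm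
      show p ∣_ E ≫ v' = p ∣_ E ≫ u'
      let q : (p ⁻¹ᵁ E).toScheme ⟶ (p ⁻¹ᵁ V).toScheme := U.homOfLE (fun x hx => hle hx)
      have hq : q ≫ p ∣_ V = p ∣_ E ≫ i := by
        rw [← cancel_mono V.ι]; simp [q, i]
      rw [← cancel_mono Z₀.ι]
      simp only [u', v', Category.assoc, IsOpenImmersion.lift_fac]
      rw [← reassoc_of% hq, ← reassoc_of% hq, h]
    refine ⟨V.ι ⁻¹ᵁ E, hyE, ?_⟩
    let q : (V.ι ⁻¹ᵁ E).toScheme ⟶ E.toScheme := V.ι.resLE E _ le_rfl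
    have hq : (V.ι ⁻¹ᵁ E).ι = q ≫ i := by
      rw [← cancel_mono V.ι]; simp [q, i]
    rw [hq, Category.assoc, Category.assoc]
    congr 1
    have := congrArg (· ≫ Z₀.ι) e1
    simpa [u', v'] using this
  choose O hO hOe using key
  refine (V.toScheme.openCoverOfIsOpenCover O ?_).hom_ext _ _ fun y => hOe y
  exact TopologicalSpace.IsOpenCover.mk (eq_top_iff.2 fun z _ => TopologicalSpace.Opens.mem_iSup.2 ⟨z, hO z⟩)

theorem exists_desc (H : IsQuot s t p) {Z : Scheme.{u}} (g : U ⟶ Z) (hg : s ≫ g = t ≫ g) :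
    ∃ u, p ≫ u = g := by
  have key : ∀ y : M, ∃ E : M.Opens, y ∈ E ∧ ∃ u : E.toScheme ⟶ Z, p ∣_ E ≫ u = (p ⁻¹ᵁ E).ι ≫ g := by
    intro y
    obtain ⟨x, rfl⟩ := H.surj y
    obtain ⟨_, ⟨Z', hZ₀, rfl⟩, hxZ, -⟩ := Z.isBasis_affineOpens.exists_subset_of_mem_open (Set.mem_univ (g x)) isOpen_univ
    let Z₀ : Z.Opens := Z'
    haveI : IsAffine Z₀.toScheme := hZ₀
    let V : M.Opens := ⟨p '' (g ⁻¹ᵁ Z₀), H.isOpenMap _ (g ⁻¹ᵁ Z₀).2⟩
    obtain ⟨E, hyE, hEV, hE⟩ := H.loc (p x) V ⟨x, hxZ, rfl⟩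
    have hZE : ∀ e : (p ⁻¹ᵁ E).toScheme, g ((p ⁻¹ᵁ E).ι e) ∈ Z₀ := by
      intro e
      obtain ⟨x', hx', hxe⟩ := hEV e.2
      obtain ⟨r, hr₁, hr₂⟩ := H.rel x' e.1 hxe
      have : g (t r) = g (s r) := congrArg (fun f => f r) hg.symm
      show g e.1 ∈ Z₀
      rw [← hr₂, ← this, hr₁]
      exact hx'
    let g' : (p ⁻¹ᵁ E).toScheme ⟶ Z₀.toScheme := IsOpenImmersion.lift Z₀.ι ((p ⁻¹ᵁ E).ι ≫ g) (by
      rintro _ ⟨e, rfl⟩; rw [Scheme.Opens.range_ι]; exact hZE e)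
    obtain ⟨w, hw, -⟩ := hE _ g' (fun T r a b ha hb => by
      rw [← cancel_mono Z₀.ι]
      simp only [g', Category.assoc, IsOpenImmersion.lift_fac]
      rw [reassoc_of% ha, reassoc_of% hb, hg])
    exact ⟨E, hyE, w ≫ Z₀.ι, by rw [reassoc_of% hw, IsOpenImmersion.lift_fac]⟩
  choose E hyE f hf using key
  let 𝒰 := M.openCoverOfIsOpenCover E
    (TopologicalSpace.IsOpenCover.mk (eq_top_iff.2 fun z _ => TopologicalSpace.Opens.mem_iSup.2 ⟨z, hyE z⟩))
  have hf' : ∀ a b : M, pullback.fst (E a).ι (E b).ι ≫ f a = pullback.snd (E a).ι (E b).ι ≫ f b := by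
    intro a b
    let k : pullback ((E a).ι) ((E b).ι) ⟶ M := pullback.fst _ _ ≫ (E a).ι
    let φ := k.isoOpensRange
    rw [← cancel_epi φ.inv]
    apply epi H
    have ha : p ∣_ k.opensRange ≫ φ.inv ≫ pullback.fst _ _ ≫ f a = (p ⁻¹ᵁ k.opensRange).ι ≫ g := by
      let α := p ∣_ k.opensRange ≫ φ.inv ≫ pullback.fst ((E a).ι) ((E b).ι)
      have hα : α ≫ (E a).ι = (p ⁻¹ᵁ k.opensRange).ι ≫ p := by
        simp only [α, Category.assoc]
        show p ∣_ k.opensRange ≫ φ.inv ≫ k = _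
        rw [show φ.inv ≫ k = k.opensRange.ι from Scheme.Hom.isoOpensRange_inv_comp k, morphismRestrict_ι]
      have hle : p ⁻¹ᵁ k.opensRange ≤ p ⁻¹ᵁ E a := fun x hx => by
        have := congrArg (fun f => f ⟨x, hx⟩) hα
        show p x ∈ E a
        rw [show p x = (E a).ι (α ⟨x, hx⟩) from this.symm]
        exact (α ⟨x, hx⟩).2
      have : α = U.homOfLE hle ≫ p ∣_ E a := by
        rw [← cancel_mono (E a).ι, hα]; simp
      show _ = _
      rw [show p ∣_ k.opensRange ≫ φ.inv ≫ pullback.fst _ _ ≫ f a = α ≫ f a by simp [α]]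
      rw [this, Category.assoc, hf, Scheme.homOfLE_ι_assoc]
    have hb : p ∣_ k.opensRange ≫ φ.inv ≫ pullback.snd _ _ ≫ f b = (p ⁻¹ᵁ k.opensRange).ι ≫ g := by
      let α := p ∣_ k.opensRange ≫ φ.inv ≫ pullback.snd ((E a).ι) ((E b).ι)
      have hα : α ≫ (E b).ι = (p ⁻¹ᵁ k.opensRange).ι ≫ p := by
        simp only [α, Category.assoc]
        show p ∣_ k.opensRange ≫ φ.inv ≫ pullback.snd _ _ ≫ (E b).ι = _
        rw [← pullback.condition]
        show p ∣_ k.opensRange ≫ φ.inv ≫ k = _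
        rw [show φ.inv ≫ k = k.opensRange.ι from Scheme.Hom.isoOpensRange_inv_comp k, morphismRestrict_ι]
      have hle : p ⁻¹ᵁ k.opensRange ≤ p ⁻¹ᵁ E b := fun x hx => by
        have := congrArg (fun f => f ⟨x, hx⟩) hα
        show p x ∈ E b
        rw [show p x = (E b).ι (α ⟨x, hx⟩) from this.symm]
        exact (α ⟨x, hx⟩).2
      have : α = U.homOfLE hle ≫ p ∣_ E b := by
        rw [← cancel_mono (E b).ι, hα]; simp
      rw [show p ∣_ k.opensRange ≫ φ.inv ≫ pullback.snd _ _ ≫ f b = α ≫ f b by simp [α]]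
      rw [this, Category.assoc, hf, Scheme.homOfLE_ι_assoc]
    exact ha.trans hb.symm
  refine ⟨𝒰.glueMorphisms f hf', ?_⟩
  refine Scheme.Cover.hom_ext (𝒰.pullback₁ p) _ _ fun (a : M) => ?_
  show pullback.fst p (E a).ι ≫ p ≫ _ = pullback.fst p (E a).ι ≫ g
  rw [pullback.condition_assoc, show (E a).ι ≫ 𝒰.glueMorphisms f hf' = f a from Scheme.Cover.ι_glueMorphisms 𝒰 f hf' a]
  have : pullback.snd p (E a).ι = (pullbackRestrictIsoRestrict p (E a)).hom ≫ p ∣_ E a :=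
    (Iso.inv_comp_eq _).1 rfl
  rw [this, Category.assoc, hf]
  exact pullbackRestrictIsoRestrict_hom_ι_assoc p (E a) g

theorem unique_desc (H : IsQuot s t p) {Z : Scheme.{u}} (u v : M ⟶ Z) (h : p ≫ u = p ≫ v) : u = v := by
  have := epi H ⊤ (Scheme.Opens.ι ⊤ ≫ u) (Scheme.Opens.ι ⊤ ≫ v) (by
    rw [morphismRestrict_ι_assoc, morphismRestrict_ι_assoc, h])
  haveI htop : IsIso (Scheme.Opens.ι (⊤ : M.Opens)) := (Scheme.topIso M).isIso_hom
  exact (cancel_epi (Scheme.Opens.ι (⊤ : M.Opens))).1 this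

/-- a quotient is a coequalizer of schemes -/
def isColimit (H : IsQuot s t p) : IsColimit (Cofork.ofπ p H.w) :=
  Cofork.IsColimit.mk _ (fun c => (exists_desc H c.π c.condition).choose)
    (fun c => (exists_desc H c.π c.condition).choose_spec)
    (fun c m hm => unique_desc H _ _ (hm.trans (exists_desc H c.π c.condition).choose_spec.symm))

theorem exists_iso (H : IsQuot s t p) {M' : Scheme.{u}} {p' : U ⟶ M'} (H' : IsQuot s t p') :
    ∃ e : M ≅ M', p ≫ e.hom = p' := by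
  obtain ⟨u, hu⟩ := exists_desc H p' H'.w
  obtain ⟨v, hv⟩ := exists_desc H' p H.w
  refine ⟨⟨u, v, unique_desc H _ _ ?_, unique_desc H' _ _ ?_⟩, hu⟩
  · rw [reassoc_of% hu, hv, Category.comp_id]
  · rw [reassoc_of% hv, hu, Category.comp_id]

end Groth.Agent.Coeq6.Pred

end
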