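import Groth.Agent.Coeq6.Pred

/-!
Transport of local quotients along open immersions.
-/

universe u

open CategoryTheory AlgebraicGeometry Limits

set_option linter.style.haveILetI false
set_option backward.isDefEq.respectTransparency.types false

noncomputable section

namespace Groth.Agent.Coeq6.Transport

open Pred

variable {R U M R' U' M' : Scheme.{u}} {s t : R ⟶ U} {p : U ⟶ M} {s' t' : R' ⟶ U'} {p' : U' ⟶ M'}
  (jR : R' ⟶ R) (jU : U' ⟶ U) (k : M' ⟶ M) [IsOpenImmersion jR] [IsOpenImmersion jU] [IsOpenImmersion k]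

theorem range_preimage (hp : p' ≫ k = jU ≫ p) (hU : Set.range jU = p ⁻¹' Set.range k) (E' : M'.Opens) :
    Set.range ((p' ⁻¹ᵁ E').ι ≫ jU) = Set.range (p ⁻¹ᵁ (k ''ᵁ E')).ι := by
  rw [Scheme.Opens.range_ι, Scheme.Hom.comp_base, TopCat.coe_comp, Set.range_comp, Scheme.Opens.range_ι]
  ext x
  constructor
  · rintro ⟨x', hx', rfl⟩
    exact ⟨p' x', hx', congrArg (fun f => f x') hp⟩
  · rintro ⟨e, he, hex⟩
    obtain ⟨x', rfl⟩ : x ∈ Set.range jU := by rw [hU]; exact ⟨e, hex⟩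
    refine ⟨x', ?_, rfl⟩
    have : p' x' = e := k.isOpenEmbedding.injective ((congrArg (fun f => f x') hp).trans hex.symm)
    show p' x' ∈ E'
    rw [this]; exact he

theorem affUniv_iff (hs : s' ≫ jU = jR ≫ s) (ht : t' ≫ jU = jR ≫ t) (hp : p' ≫ k = jU ≫ p)
    (hU : Set.range jU = p ⁻¹' Set.range k) (hR : Set.range jR = s ⁻¹' Set.range jU) (E' : M'.Opens) :
    AffUniv s' t' p' E' ↔ AffUniv s t p (k ''ᵁ E') := by
  let α : (p' ⁻¹ᵁ E').toScheme ≅ (p ⁻¹ᵁ (k ''ᵁ E')).toScheme :=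
    IsOpenImmersion.isoOfRangeEq ((p' ⁻¹ᵁ E').ι ≫ jU) (p ⁻¹ᵁ (k ''ᵁ E')).ι (range_preimage jU k hp hU E')
  let β : E'.toScheme ≅ (k ''ᵁ E').toScheme :=
    IsOpenImmersion.isoOfRangeEq (E'.ι ≫ k) (k ''ᵁ E').ι (by
      rw [Scheme.Opens.range_ι, Scheme.Hom.comp_base, TopCat.coe_comp, Set.range_comp, Scheme.Opens.range_ι]; rfl)
  have hα : α.hom ≫ (p ⁻¹ᵁ (k ''ᵁ E')).ι = (p' ⁻¹ᵁ E').ι ≫ jU := IsOpenImmersion.isoOfRangeEq_hom_fac _ _ _
  have hβ : β.hom ≫ (k ''ᵁ E').ι = E'.ι ≫ k := IsOpenImmersion.isoOfRangeEq_hom_fac _ _ _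
  have hsq : α.hom ≫ p ∣_ (k ''ᵁ E') = p' ∣_ E' ≫ β.hom := by
    rw [← cancel_mono (k ''ᵁ E').ι, Category.assoc, Category.assoc, morphismRestrict_ι, reassoc_of% hα, hβ,
      morphismRestrict_ι_assoc, hp]
  have hInv : ∀ (Z : Scheme.{u}) (g : (p ⁻¹ᵁ (k ''ᵁ E')).toScheme ⟶ Z),
      Inv s t (p ⁻¹ᵁ (k ''ᵁ E')) g ↔ Inv s' t' (p' ⁻¹ᵁ E') (α.hom ≫ g) := by
    intro Z g
    refine ⟨fun h T r a b ha hb => ?_, fun h T r a b ha hb => ?_⟩
    · have := h T (r ≫ jR) (a ≫ α.hom) (b ≫ α.hom)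
        (by rw [Category.assoc, hα, reassoc_of% ha, hs, Category.assoc])
        (by rw [Category.assoc, hα, reassoc_of% hb, ht, Category.assoc])
      simpa using this
    · have hr : Set.range r ⊆ Set.range jR := by
        rintro _ ⟨z, rfl⟩
        rw [hR]
        show s (r z) ∈ Set.range jU
        rw [hU, ← Scheme.Hom.comp_apply, ← ha]
        obtain ⟨e, -, he⟩ := (a z).2
        exact ⟨e, he⟩
      let r' := IsOpenImmersion.lift jR r hr
      have hr' : r' ≫ jR = r := IsOpenImmersion.lift_fac _ _ _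
      have hι : α.inv ≫ (p' ⁻¹ᵁ E').ι ≫ jU = (p ⁻¹ᵁ (k ''ᵁ E')).ι := by rw [← hα, Iso.inv_hom_id_assoc]
      have := h T r' (a ≫ α.inv) (b ≫ α.inv)
        (by rw [← cancel_mono jU]; simp only [Category.assoc, hι, hs, ha, reassoc_of% hr'])
        (by rw [← cancel_mono jU]; simp only [Category.assoc, hι, ht, hb, reassoc_of% hr'])
      simpa using this
  constructor
  · intro H Z _ g hg
    obtain ⟨u, hu, huu⟩ := H Z (α.hom ≫ g) ((hInv Z g).1 hg)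
    refine ⟨β.inv ≫ u, ?_, fun v hv => ?_⟩
    · show p ∣_ (k ''ᵁ E') ≫ β.inv ≫ u = g
      rw [← cancel_epi α.hom, reassoc_of% hsq, Iso.hom_inv_id_assoc, hu]
    · rw [← huu (β.hom ≫ v) (by show p' ∣_ E' ≫ β.hom ≫ v = _; rw [← reassoc_of% hsq, hv]), Iso.inv_hom_id_assoc]
  · intro H Z _ g hg
    obtain ⟨u, hu, huu⟩ := H Z (α.inv ≫ g) ((hInv Z (α.inv ≫ g)).2 (by rwa [Iso.hom_inv_id_assoc]))
    refine ⟨β.hom ≫ u, ?_, fun v hv => ?_⟩
    · show p' ∣_ E' ≫ β.hom ≫ u = g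
      rw [← reassoc_of% hsq, hu, Iso.hom_inv_id_assoc]
    · rw [← huu (β.inv ≫ v) (by
        show p ∣_ (k ''ᵁ E') ≫ β.inv ≫ v = _
        rw [← cancel_epi α.hom, reassoc_of% hsq, Iso.hom_inv_id_assoc, Iso.hom_inv_id_assoc, hv]),
        Iso.hom_inv_id_assoc]

/-- restricting a quotient to an open of the target -/
theorem restrict (H : IsQuot s t p) (hs : s' ≫ jU = jR ≫ s) (ht : t' ≫ jU = jR ≫ t) (hp : p' ≫ k = jU ≫ p)
    (hU : Set.range jU = p ⁻¹' Set.range k) (hR : Set.range jR = s ⁻¹' Set.range jU) : IsQuot s' t' p' where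
  w := by rw [← cancel_mono k, Category.assoc, Category.assoc, hp, reassoc_of% hs, reassoc_of% ht, H.w]
  surj y := by
    obtain ⟨x, hx⟩ := H.surj (k y)
    obtain ⟨x', rfl⟩ : x ∈ Set.range jU := by rw [hU]; exact ⟨y, hx.symm⟩
    exact ⟨x', k.isOpenEmbedding.injective ((congrArg (fun f => f x') hp).trans hx)⟩
  isOpenMap O hO := by
    have : p' '' O = k ⁻¹' (p '' (jU '' O)) := by
      ext y
      constructor
      · rintro ⟨x, hx, rfl⟩
        exact ⟨jU x, ⟨x, hx, rfl⟩, (congrArg (fun f => f x) hp).symm⟩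
      · rintro ⟨_, ⟨x, hx, rfl⟩, he⟩
        exact ⟨x, hx, k.isOpenEmbedding.injective ((congrArg (fun f => f x) hp).trans he)⟩
    rw [this]
    exact (H.isOpenMap _ (jU.isOpenEmbedding.isOpenMap _ hO)).preimage k.continuous
  rel x y h := by
    obtain ⟨r, hr₁, hr₂⟩ := H.rel (jU x) (jU y) (by
      rw [← Scheme.Hom.comp_apply, ← Scheme.Hom.comp_apply, ← hp, Scheme.Hom.comp_apply, Scheme.Hom.comp_apply, h])
    obtain ⟨r', rfl⟩ : r ∈ Set.range jR := by rw [hR]; exact ⟨y, hr₂.symm⟩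
    exact ⟨r', jU.isOpenEmbedding.injective ((congrArg (fun f => f r') ht).trans hr₁),
      jU.isOpenEmbedding.injective ((congrArg (fun f => f r') hs).trans hr₂)⟩
  loc y V hy := by
    obtain ⟨E, hyE, hEV, hE⟩ := H.loc (k y) (k ''ᵁ V) ⟨y, hy, rfl⟩
    have e : k ''ᵁ (k ⁻¹ᵁ E) = E := by
      ext z
      refine ⟨?_, fun hz => ?_⟩
      · rintro ⟨w, hw, rfl⟩; exact hw
      · obtain ⟨w, -, rfl⟩ := hEV hz
        exact ⟨w, hz, rfl⟩
    refine ⟨k ⁻¹ᵁ E, hyE, fun z hz => ?_, (affUniv_iff jR jU k hs ht hp hU hR _).2 (by rw [e]; exact hE)⟩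
    obtain ⟨w, hw, hwz⟩ := hEV hz
    exact (k.isOpenEmbedding.injective hwz) ▸ hw

/-- the local condition of a quotient near the image of an open immersion -/
theorem loc_image (H : IsQuot s' t' p') (hs : s' ≫ jU = jR ≫ s) (ht : t' ≫ jU = jR ≫ t) (hp : p' ≫ k = jU ≫ p)
    (hU : Set.range jU = p ⁻¹' Set.range k) (hR : Set.range jR = s ⁻¹' Set.range jU) (y : M') (V : M.Opens)
    (hy : k y ∈ V) : ∃ E : M.Opens, k y ∈ E ∧ E ≤ V ∧ AffUniv s t p E := by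
  obtain ⟨E, hyE, hEV, hE⟩ := H.loc y (k ⁻¹ᵁ V) hy
  refine ⟨k ''ᵁ E, ⟨y, hyE, rfl⟩, ?_, (affUniv_iff jR jU k hs ht hp hU hR E).1 hE⟩
  rintro _ ⟨w, hw, rfl⟩
  exact hEV hw

end Groth.Agent.Coeq6.Transport

end
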